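import Groth.Agent.ASBunK.KSThm
import Mathlib.CategoryTheory.Preadditive.AdditiveFunctor
import Mathlib.Algebra.BigOperators.Fin

/-!
# Decompositions: functors, composition, powers
-/

set_option autoImplicit false

universe w v u v' u'

open CategoryTheory CategoryTheory.Limits

namespace Groth.Agent.ASBunK

variable {C : Type u} [Category.{v} C] [Abelian C] {D : Type u'} [Category.{v'} D] [Abelian D]

namespace Dec

variable {n : Type*} [Fintype n] [DecidableEq n] {F : C} {Fs : n → C}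

/-- The image of a decomposition under an additive functor. -/
def map (Φ : C ⥤ D) [Φ.Additive] (d : Dec F Fs) : Dec (Φ.obj F) (fun i => Φ.obj (Fs i)) where
  ι i := Φ.map (d.ι i)
  π i := Φ.map (d.π i)
  ι_π i := by rw [← Φ.map_comp, d.ι_π i, Φ.map_id]
  ι_π_ne i j h := by rw [← Φ.map_comp, d.ι_π_ne i j h, Φ.map_zero]
  total := by
    rw [Finset.sum_congr rfl fun i _ => (Φ.map_comp (d.π i) (d.ι i)).symm, ← Φ.map_sum, d.total,
      Φ.map_id]

/-- Decomposing the summands further. -/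
def bind {m : n → Type*} [∀ i, Fintype (m i)] [∀ i, DecidableEq (m i)] {Gs : ∀ i, m i → C}
    (d : Dec F Fs) (d' : ∀ i, Dec (Fs i) (Gs i)) : Dec F (fun q : Σ i, m i => Gs q.1 q.2) where
  ι q := (d' q.1).ι q.2 ≫ d.ι q.1
  π q := d.π q.1 ≫ (d' q.1).π q.2
  ι_π q := by simp [reassoc_of% (d.ι_π q.1), (d' q.1).ι_π q.2]
  ι_π_ne := by
    rintro ⟨i, a⟩ ⟨j, b⟩ h
    by_cases hij : i = j
    · subst hij
      simp [reassoc_of% (d.ι_π i), (d' i).ι_π_ne a b fun hab => h (by rw [hab])]
    · simp [reassoc_of% (d.ι_π_ne i j hij)]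
  total := by
    rw [Fintype.sum_sigma]
    have : ∀ i, (∑ a, (d.π i ≫ (d' i).π a) ≫ (d' i).ι a ≫ d.ι i) = d.π i ≫ d.ι i := fun i => by
      rw [Finset.sum_congr rfl fun a _ => show (d.π i ≫ (d' i).π a) ≫ (d' i).ι a ≫ d.ι i =
          d.π i ≫ ((d' i).π a ≫ (d' i).ι a) ≫ d.ι i by simp,
        ← Preadditive.comp_sum, ← Preadditive.sum_comp, (d' i).total, Category.id_comp]
    rw [Finset.sum_congr rfl fun i _ => this i, d.total]

theorem isZero [IsEmpty n] (d : Dec F Fs) : IsZero F := by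
  rw [IsZero.iff_id_eq_zero, ← d.total, Finset.univ_eq_empty, Finset.sum_empty]

end Dec

/-- Two decompositions with the same summands give isomorphic objects. -/
theorem nonempty_iso_of_dec {n : Type*} [Fintype n] [DecidableEq n] {F G : C} {Fs : n → C}
    (d : Dec F Fs) (d' : Dec G Fs) : Nonempty (F ≅ G) := by
  haveI := Abelian.hasFiniteBiproducts (C := C)
  exact ⟨d.iso ≪≫ d'.iso.symm⟩

/-- The multiples of a decomposition with constant summands. -/
theorem dec_pow_bind {W : C} {r s : ℕ} {F : C} {Fs : Fin s → C} (d : Dec F Fs)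
    (d' : ∀ i, Dec (Fs i) (fun _ : Fin r => W)) : Nonempty (Dec F (fun _ : Fin (s * r) => W)) :=
  ⟨(d.bind d').reindex
    (finProdFinEquiv.symm.trans (Equiv.sigmaEquivProd (Fin s) (Fin r)).symm)⟩

end Groth.Agent.ASBunK
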