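import Groth.Agent.ASBunK.Scheme

/-!
# Isotypic modules: uniqueness and summands
-/

set_option autoImplicit false
set_option backward.isDefEq.respectTransparency false
set_option backward.isDefEq.respectTransparency.types false
set_option linter.style.haveILetI false
set_option linter.unusedSectionVars false

universe u

open CategoryTheory CategoryTheory.Limits AlgebraicGeometry
open W4c1astiltbs12

namespace Groth.Agent.ASBunK

/-- Coherence of a decomposed module. -/
theorem isCoh_of_dec {X : Scheme.{u}} [IsLocallyNoetherian X] {n : Type} [Fintype n] [DecidableEq n]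
    {F : X.Modules} {Fs : n → X.Modules} (d : Dec F Fs) (h : ∀ i, Coh.IsCoh (Fs i)) : Coh.IsCoh F := by
  haveI := Abelian.hasFiniteBiproducts (C := X.Modules)
  exact SheafHomX.isCoh_of_iso ((biproduct.isoCoproduct _) ≪≫
    ((d.reindex (Equiv.ulift.{u} : ULift.{u} n ≃ n)).iso).symm)
    (QCoh.isCoh_biproduct (fun i : ULift.{u} n => Fs i.down) fun i => h _)

theorem isCoh_pow {X : Scheme.{u}} [IsLocallyNoetherian X] {M : X.Modules} (h : Coh.IsCoh M) (n : ℕ) :
    Coh.IsCoh (pow M n) :=
  isCoh_of_dec (Dec.coprod (Fs := fun _ : Fin n => M)) fun _ => h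

variable (k : Type u) [Field k] {X : Scheme.{u}} (p : X ⟶ Spec (CommRingCat.of k)) [IsProper p]
  (K : Type u) [Field K] [Algebra k K]

theorem isProper_baseChangeTo : IsProper (W4bk4gw11416.baseChangeTo p K) :=
  MorphismProperty.pullback_snd (P := @IsProper) p _ ‹_›

theorem isCoh_bcMod {F : X.Modules} (hF : Coh.IsCoh F) : Coh.IsCoh (bcMod p K F) :=
  ZClosLib.isCoh_pullback _ hF

/-- A module which becomes zero after extending the field is zero. -/
theorem isZero_of_bcMod {F : X.Modules} (hF : Coh.IsCoh F) (h : IsZero (bcMod p K F)) : IsZero F := by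
  haveI := isLocallyNoetherian_of_proper k p
  let Z : X.Modules := ∐ fun i : Fin 0 => (i.elim0 : X.Modules)
  have dZ : Dec Z (fun i : Fin 0 => (i.elim0 : X.Modules)) := Dec.coprod
  obtain ⟨e⟩ := nonempty_iso_of_bcMod_iso k p K hF (isCoh_of_dec dZ fun i => i.elim0)
    (h.iso ((Scheme.Modules.pullback (proj p K)).map_isZero dZ.isZero))
  exact dZ.isZero.of_iso e

/-- Indecomposable coherent modules of the same type are isomorphic. -/
theorem indec_isotypic_unique {W : (W4bk4gw11416.baseChange p K).Modules} {E E' : X.Modules}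
    (hE : Coh.IsCoh E) (hE' : Coh.IsCoh E') (hEi : Indec E) (hE'i : Indec E') {r s : ℕ}
    (eE : bcMod p K E ≅ pow W r) (eE' : bcMod p K E' ≅ pow W s) : Nonempty (E ≅ E') := by
  haveI := isLocallyNoetherian_of_proper k p
  have dW : Dec (bcMod p K E) (fun _ : Fin r => W) := decOfIso eE
  have dW' : Dec (bcMod p K E') (fun _ : Fin s => W) := decOfIso eE'
  have hr : 0 < r := Nat.pos_of_ne_zero fun h => hEi.1 (isZero_of_bcMod k p K hE (by subst h; exact dW.isZero))
  have hs : 0 < s := Nat.pos_of_ne_zero fun h =>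
    hE'i.1 (isZero_of_bcMod k p K hE' (by subst h; exact dW'.isZero))
  let dEs : Dec (pow E s) (fun _ : Fin s => E) := Dec.coprod
  let dE'r : Dec (pow E' r) (fun _ : Fin r => E') := Dec.coprod
  obtain ⟨d1⟩ := dec_pow_bind (dEs.map (Scheme.Modules.pullback (proj p K))) fun _ => dW
  obtain ⟨d2⟩ := dec_pow_bind (dE'r.map (Scheme.Modules.pullback (proj p K))) fun _ => dW'
  obtain ⟨e⟩ := nonempty_iso_of_dec d1 (d2.reindex (finCongr (Nat.mul_comm s r)))
  obtain ⟨φ⟩ := nonempty_iso_of_bcMod_iso k p K (isCoh_pow hE s) (isCoh_pow hE' r) e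
  exact iso_of_dec_const k p (isCoh_pow hE' r) (dEs.ofIso φ) dE'r (fun _ => hEi) hE'i ⟨0, hs⟩

/-- A summand of an isotypic module of indecomposable type is isotypic. -/
theorem isotypic_of_isRetr {W : (W4bk4gw11416.baseChange p K).Modules} (hW : Indec W) {E : X.Modules}
    (hE : Coh.IsCoh E) {r : ℕ} (eE : bcMod p K E ≅ pow W r) {n : ℕ} {Gs : Fin n → X.Modules}
    (d : Dec E Gs) (i : Fin n) : ∃ m : ℕ, Nonempty (bcMod p K (Gs i) ≅ pow W m) := by
  haveI := isProper_baseChangeTo k p K
  have hdec : ∀ j, ∃ (m : ℕ) (Ps : Fin m → (W4bk4gw11416.baseChange p K).Modules),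
      (∀ a, Indec (Ps a)) ∧ Nonempty (Dec (bcMod p K (Gs j)) Ps) := fun j =>
    exists_dec_of_isCoh K (W4bk4gw11416.baseChangeTo p K)
      (isCoh_bcMod k p K (isCoh_of_isRetr (d.isRetr j) hE))
  choose m Ps hPs hd using hdec
  let db := (d.map (Scheme.Modules.pullback (proj p K))).bind fun j => (hd j).some
  have hiso : ∀ a, Nonempty (Ps i a ≅ W) := fun a =>
    iso_of_dec_const K (W4bk4gw11416.baseChangeTo p K) (isCoh_bcMod k p K hE) db (decOfIso eE)
      (fun q => hPs q.1 q.2) hW ⟨i, a⟩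
  exact ⟨m i, ⟨((hd i).some.mapIso fun a => (hiso a).some).iso⟩⟩

/-- An isotypic module of indecomposable type is a power of one indecomposable module. -/
theorem exists_pow_indec {W : (W4bk4gw11416.baseChange p K).Modules} (hW : Indec W) {E : X.Modules}
    (hE : Coh.IsCoh E) (hE0 : ¬ IsZero E) {r : ℕ} (eE : bcMod p K E ≅ pow W r) :
    ∃ (G : X.Modules) (n m : ℕ), 0 < n ∧ Indec G ∧ IsRetr G E ∧ Nonempty (E ≅ pow G n) ∧
      Nonempty (bcMod p K G ≅ pow W m) := by
  haveI := Abelian.hasFiniteBiproducts (C := X.Modules)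
  obtain ⟨n, Gs, hGs, ⟨d⟩⟩ := exists_dec_of_isCoh k p hE
  have hn : 0 < n := Nat.pos_of_ne_zero fun h => hE0 (by subst h; exact d.isZero)
  choose m hm using isotypic_of_isRetr k p K hW hE eE d
  have hi : ∀ i, Nonempty (Gs i ≅ Gs ⟨0, hn⟩) := fun i =>
    indec_isotypic_unique k p K (isCoh_of_isRetr (d.isRetr i) hE)
      (isCoh_of_isRetr (d.isRetr _) hE) (hGs i) (hGs _) (hm i).some (hm _).some
  exact ⟨Gs ⟨0, hn⟩, n, m _, hn, hGs _, d.isRetr _, ⟨(d.mapIso fun i => (hi i).some).iso⟩, hm _⟩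

end Groth.Agent.ASBunK
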