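import Groth.Agent.ASBunK.Simple
import Groth.Agent.ASBunK.Isotypic
import Groth.Agent.SBBundle.TensorLinear
import Groth.Agent.SBBundle.Types
import Groth.Agent.H23.EndInv
import Groth.Agent.H23.Frame
import Groth.Prelude.Def_PicGrp

/-!
# Isotypical modules for invertible types
-/

set_option autoImplicit false
set_option backward.isDefEq.respectTransparency false
set_option backward.isDefEq.respectTransparency.types false
set_option linter.style.haveILetI false
set_option linter.unusedSectionVars false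

universe u

open CategoryTheory CategoryTheory.Limits AlgebraicGeometry TopologicalSpace
open W4c1astiltbs12

noncomputable section

namespace Groth.Agent.ASBunK

open Groth.Agent.AModX Groth.Agent.InvX

/-- An invertible module on a connected scheme is indecomposable. -/
theorem indec_of_isInvertible_connected {X : Scheme.{u}} [ConnectedSpace X] {L : X.Modules}
    (hL : PicF.IsInvertible L) : Indec L := by
  have hne : ∀ x : X, ∃ (U : X.Opens) (e : Γ(L, U)), x ∈ U ∧ IsFrame e := fun x => by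
    obtain ⟨U, hx, e, he⟩ := InvX.exists_frame hL x
    exact ⟨U, e, hx, he⟩
  choose U e hU he using hne
  obtain ⟨x₀⟩ : Nonempty X := inferInstance
  haveI : Nonempty (U x₀) := ⟨⟨x₀, hU x₀⟩⟩
  have h0 : ¬ IsZero L := fun h => by
    refine zero_ne_one (α := Γ(X, U x₀)) ((he x₀).coord_unique le_rfl ?_)
    rw [zero_smul, one_smul, res_self]
    exact (congrArg (fun φ : L ⟶ L => φ.app (U x₀) (e x₀)) ((IsZero.iff_id_eq_zero L).1 h)).symm
  refine ⟨h0, fun A B ⟨i⟩ => ?_⟩
  let φ : L ⟶ L := i.hom ≫ biprod.fst ≫ biprod.inl ≫ i.inv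
  obtain ⟨s, hs⟩ := H23.EndInv.exists_coeff hL φ
  have hid : s * s = s := by
    refine eq_of_locally (M := Coh.structureModule X) (show Γ(X, ⊤) from s * s) s fun x _ =>
      ⟨U x, le_top, hU x, ?_⟩
    show resR (le_top : U x ≤ ⊤) (s * s) = resR (le_top : U x ≤ ⊤) s
    refine (he x).coord_unique le_rfl ?_
    rw [res_self, map_mul, mul_smul, ← hs, ← hs, show φ.app (U x) (φ.app (U x) (e x)) = (φ ≫ φ).app (U x) (e x) from rfl,
      show φ ≫ φ = φ by simp [φ]]
  have hmeet : X.basicOpen s ⊓ X.basicOpen (1 - s) = ⊥ := by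
    rw [← X.basicOpen_mul, mul_sub, mul_one, hid, sub_self, Scheme.basicOpen_zero]
  have hjoin : ∀ x : X, x ∈ X.basicOpen s ∨ x ∈ X.basicOpen (1 - s) := fun x => by
    rw [Scheme.mem_basicOpen X s x (show x ∈ (⊤ : X.Opens) from trivial),
      Scheme.mem_basicOpen X (1 - s) x (show x ∈ (⊤ : X.Opens) from trivial), map_sub, map_one]
    exact IsLocalRing.isUnit_or_isUnit_one_sub_self _
  have hclopen : IsClopen (X.basicOpen s : Set X) := by
    refine ⟨?_, (X.basicOpen s).isOpen⟩
    have hc : (X.basicOpen s : Set X) = (X.basicOpen (1 - s) : Set X)ᶜ := by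
      ext x
      refine ⟨fun hx hx' => ?_, fun hx => (hjoin x).resolve_right hx⟩
      have hm : x ∈ X.basicOpen s ⊓ X.basicOpen (1 - s) := ⟨hx, hx'⟩
      rw [hmeet] at hm
      exact hm
    rw [hc]
    exact (X.basicOpen (1 - s)).isOpen.isClosed_compl
  have hunit : ∀ t : Γ(X, ⊤), (∀ x : X, x ∈ X.basicOpen t) → IsUnit t := fun t ht => by
    have := isUnit_resR (le_refl (⊤ : X.Opens)) t (fun x _ => ht x)
    rwa [resR_self] at this
  rcases isClopen_iff.1 hclopen with h | h
  · have hs0 : s = 0 := by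
      have hu := hunit (1 - s) fun x => (hjoin x).resolve_left (fun hx => (Set.eq_empty_iff_forall_notMem.1 h) x hx)
      refine (hu.mul_left_eq_zero).1 ?_
      rw [mul_sub, mul_one, hid, sub_self]
    have hφ : φ = 0 := Scheme.Modules.hom_ext _ _ fun W => by
      ext l
      rw [hs, hs0, map_zero, zero_smul]
      rfl
    exact Or.inl ((IsZero.iff_id_eq_zero A).2 (by
      have := congrArg (fun t => biprod.inl ≫ i.inv ≫ t ≫ i.hom ≫ biprod.fst) hφ
      simpa [φ] using this))
  · have hs1 : s = 1 := by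
      have hu := hunit s fun x => show x ∈ (X.basicOpen s : Set X) from h ▸ Set.mem_univ x
      exact hu.mul_left_cancel (hid.trans (mul_one s).symm)
    have hφ : φ = 𝟙 L := Scheme.Modules.hom_ext _ _ fun W => by
      ext l
      rw [hs, hs1, map_one, one_smul]
      rfl
    exact Or.inr ((IsZero.iff_id_eq_zero B).2 (by
      have := congrArg (fun t => biprod.inr ≫ i.inv ≫ t ≫ i.hom ≫ biprod.snd) hφ
      simpa [φ] using this.symm))

section Decomp

variable (k : Type u) [Field k] {X : Scheme.{u}} (p : X ⟶ Spec (CommRingCat.of k)) [IsProper p]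
  (K : Type u) [Field K] [Algebra k K]

/-- An indecomposable module which becomes a sum of types realised by indecomposable modules is one of them. -/
theorem exists_iso_of_absSplit {E : X.Modules} (hE : Coh.IsCoh E) (hi : Indec E) {n : ℕ}
    {Ns : Fin n → (W4bk4gw11416.baseChange p K).Modules} (d : Dec (bcMod p K E) Ns)
    (W : Fin n → X.Modules) (hW : ∀ i, Coh.IsCoh (W i)) (hWi : ∀ i, Indec (W i)) (r : Fin n → ℕ)
    (hr : ∀ i, 0 < r i) (hWt : ∀ i, Nonempty (bcMod p K (W i) ≅ pow (Ns i) (r i))) :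
    ∃ i, Nonempty (E ≅ W i) := by
  haveI := isLocallyNoetherian_of_proper k p
  have hn : 0 < n := Nat.pos_of_ne_zero fun h => hi.1
    (isZero_of_bcMod k p K hE (by subst h; exact d.isZero))
  let N := ∏ i, r i
  let a : Fin n → ℕ := fun i => N / r i
  have hd : ∀ i, r i ∣ N := fun i => Finset.dvd_prod_of_mem r (Finset.mem_univ i)
  have hN : 0 < N := Finset.prod_pos fun i _ => hr i
  let EN : X.Modules := ∐ fun _ : Fin N => E
  let M : X.Modules := ∐ fun x : (Σ i, Fin (a i)) => W x.1
  let dEN : Dec EN (fun _ : Fin N => E) := Dec.coprod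
  let dM : Dec M (fun x : (Σ i, Fin (a i)) => W x.1) := Dec.coprod
  have hEN : Coh.IsCoh EN := isCoh_of_dec dEN fun _ => hE
  have hM : Coh.IsCoh M := isCoh_of_dec dM fun x => hW x.1
  let d1 := (dEN.map (Scheme.Modules.pullback (proj p K))).bind fun _ => d
  let d2 := (dM.map (Scheme.Modules.pullback (proj p K))).bind fun x => decOfIso (hWt x.1).some
  let σ : (Σ x : (Σ i, Fin (a i)), Fin (r x.1)) ≃ (Σ _ : Fin N, Fin n) :=
    ((((Equiv.sigmaAssoc fun i (_ : Fin (a i)) => Fin (r i)).trans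
      (Equiv.sigmaCongrRight fun i => (Equiv.sigmaEquivProd (Fin (a i)) (Fin (r i))).trans
        (finProdFinEquiv.trans (finCongr (Nat.div_mul_cancel (hd i)))))).trans
      (Equiv.sigmaEquivProd (Fin n) (Fin N))).trans (Equiv.prodComm _ _)).trans
      (Equiv.sigmaEquivProd (Fin N) (Fin n)).symm
  obtain ⟨φ⟩ := nonempty_iso_of_dec (d1.reindex σ) d2
  obtain ⟨ψ⟩ := nonempty_iso_of_bcMod_iso k p K hEN hM φ
  let i₀ : Fin n := ⟨0, hn⟩
  obtain ⟨i⟩ := iso_of_dec_const k p hM dM (dEN.ofIso ψ)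
    (fun x => hWi x.1) hi ⟨i₀, ⟨0, Nat.div_pos (Nat.le_of_dvd hN (hd i₀)) (hr i₀)⟩⟩
  exact ⟨i₀, ⟨i.symm⟩⟩

/-- A module becoming a power of an indecomposable is a power of an indecomposable of that type. -/
theorem exists_indec_of_type {N : (W4bk4gw11416.baseChange p K).Modules} (hN : Indec N) {E : X.Modules}
    (hE : Coh.IsCoh E) {r : ℕ} (hr : 0 < r) (eE : bcMod p K E ≅ pow N r) :
    ∃ (G : X.Modules) (c s : ℕ), Indec G ∧ IsRetr G E ∧ c * s = r ∧ 0 < s ∧ Nonempty (E ≅ pow G c) ∧
      Nonempty (bcMod p K G ≅ pow N s) := by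
  haveI := isLocallyNoetherian_of_proper k p
  haveI := isProper_baseChangeTo k p K
  have hE0 : ¬ IsZero E := fun h => hN.id_ne_zero (by
    have d := decOfIso eE
    have hz : IsZero (bcMod p K E) := (Scheme.Modules.pullback _).map_isZero h
    rw [← d.ι_π ⟨0, hr⟩, hz.eq_of_tgt (d.ι ⟨0, hr⟩) 0, zero_comp])
  obtain ⟨G, c, s, hc, hG, hR, ⟨iG⟩, ⟨eG⟩⟩ := exists_pow_indec k p K hN hE hE0 eE
  have d1 : Dec (bcMod p K E) (fun _ : (Σ _ : Fin c, Fin s) => N) :=
    ((decOfIso iG).map (Scheme.Modules.pullback (proj p K))).bind fun _ => decOfIso eG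
  obtain ⟨σ, -⟩ := exists_equiv_of_dec_isCoh K (W4bk4gw11416.baseChangeTo p K) (isCoh_bcMod k p K hE) d1
    (decOfIso eE) (fun _ => hN) (fun _ => hN)
  have hcs : c * s = r := by simpa using Fintype.card_congr σ
  exact ⟨G, c, s, hG, hR, hcs, Nat.pos_of_mul_pos_left (hcs ▸ hr), ⟨iG⟩, ⟨eG⟩⟩

end Decomp

section Classes

open PicGrp

variable {Y : Scheme.{u}} [Law Y]

/-- Tensor products of invertible modules with given classes. -/
theorem nonempty_iso_tensor_of_cls {L M N : Y.Modules} (hL : PicF.IsInvertible L) (hM : PicF.IsInvertible M)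
    (hN : PicF.IsInvertible N) (h : cls L hL * cls M hM = cls N hN) : Nonempty (CohB1.tensorMod L M ≅ N) := by
  rw [← cl_eq_cl_iff, ← cls_mul_cls_val hL hM, h]
  rfl

/-- A module of type `N` tensor a module of type `N'`. -/
theorem nonempty_bc_tensor {k : Type u} [Field k] {X : Scheme.{u}} {p : X ⟶ Spec (CommRingCat.of k)}
    {K : Type u} [Field K] [Algebra k K] {W W' : X.Modules}
    {N N' N'' : (W4bk4gw11416.baseChange p K).Modules} {d d' : ℕ}
    (h : bcMod p K W ≅ pow N d) (h' : bcMod p K W' ≅ pow N' d') (i : CohB1.tensorMod N N' ≅ N'') :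
    Nonempty (bcMod p K (CohB1.tensorMod W W') ≅ pow N'' (d * d')) := by
  have dd := ((SBBundle.decTensor (decOfIso h) (decOfIso h')).mapIso fun _ => i).ofIso
    (SBBundle.pullTensorIso (proj p K) W W').symm
  exact ⟨(dd.reindex (finProdFinEquiv.symm.trans (Equiv.sigmaEquivProd (Fin d) (Fin d')).symm)).iso⟩

end Classes

section Dual

variable (k : Type u) [Field k] {X : Scheme.{u}} [X.Over (Spec (CommRingCat.of k))]
  [IsProper (X ↘ Spec (CommRingCat.of k))] (K : Type u) [Field K] [Algebra k K]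
  [(W4bk4gw11416.baseChange (X ↘ Spec (CommRingCat.of k)) K).Over (Spec (CommRingCat.of K))]
  (hov : ((W4bk4gw11416.baseChange (X ↘ Spec (CommRingCat.of k)) K) ↘ Spec (CommRingCat.of K)) =
    W4bk4gw11416.baseChangeTo (X ↘ Spec (CommRingCat.of k)) K)

include hov in
theorem isPullback_bc : IsPullback (proj (X ↘ Spec (CommRingCat.of k)) K)
    ((W4bk4gw11416.baseChange (X ↘ Spec (CommRingCat.of k)) K) ↘ Spec (CommRingCat.of K))
    (X ↘ Spec (CommRingCat.of k)) (Spec.map (CommRingCat.ofHom (algebraMap k K))) := by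
  rw [hov]
  exact IsPullback.of_hasPullback _ _

/-- When the global functions are the scalars, so are the endomorphisms of the structure module. -/
theorem exists_smul_id_structure (hO : IsIso (X ↘ Spec (CommRingCat.of k)).appTop)
    (f : Coh.structureModule X ⟶ Coh.structureModule X) : ∃ a : k, f = a • 𝟙 _ := by
  obtain ⟨a, ha⟩ := (ConcreteCategory.bijective_of_isIso (X ↘ Spec (CommRingCat.of k)).appTop).2
    (show Γ(X, ⊤) from f.app ⊤ (H23.Frame.one ⊤))
  obtain ⟨b, hb⟩ := (ConcreteCategory.bijective_of_isIso (Scheme.ΓSpecIso (CommRingCat.of k)).inv).2 a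
  subst hb
  refine ⟨b, Scheme.Modules.hom_ext _ _ fun W => ?_⟩
  ext l
  rw [H23.Frame.app_eq_smul f W l, ← H23.Frame.app_one_res f (le_top : W ≤ ⊤),
    KLin.smul_app_apply]
  show (show Γ(X, W) from l) * X.presheaf.map (homOfLE le_top).op (f.app ⊤ (H23.Frame.one ⊤)) = _
  exact (congrArg (fun z => (show Γ(X, W) from l) * X.presheaf.map (homOfLE (le_top : W ≤ ⊤)).op z) ha.symm).trans
    (mul_comm _ _)

include hov in
/-- The same after extending the field. -/
theorem exists_smul_id_structure_bc (hO : IsIso (X ↘ Spec (CommRingCat.of k)).appTop)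
    (f : Coh.structureModule (W4bk4gw11416.baseChange (X ↘ Spec (CommRingCat.of k)) K) ⟶
      Coh.structureModule (W4bk4gw11416.baseChange (X ↘ Spec (CommRingCat.of k)) K)) :
    ∃ a : K, f = a • 𝟙 _ := by
  haveI := isLocallyNoetherian_of_proper k (X ↘ Spec (CommRingCat.of k))
  haveI : CompactSpace X := QuasiCompact.compactSpace_of_compactSpace (X ↘ Spec (CommRingCat.of k))
  let u := CurveBC.unitIso (proj (X ↘ Spec (CommRingCat.of k)) K)
  obtain ⟨t, ht⟩ := θ_surjective k K _ (isPullback_bc k K hov) (QCoh.isCoh_structureModule' (X := X))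
    QCoh.isQCoh_structureModule (u.hom ≫ f ≫ u.inv)
  have key : ∀ t, ∃ a : K, θ k K (proj (X ↘ Spec (CommRingCat.of k)) K) (isPullback_bc k K hov)
      (Coh.structureModule X) (Coh.structureModule X) t = a • 𝟙 _ := fun t => by
    induction t using TensorProduct.induction_on with
    | zero => exact ⟨0, by simp⟩
    | tmul c g =>
      obtain ⟨b, rfl⟩ := exists_smul_id_structure k hO g
      refine ⟨c * algebraMap k K b, ?_⟩
      have h1 : c ⊗ₜ[k] (b • 𝟙 (Coh.structureModule X)) = (c * algebraMap k K b) • ((1 : K) ⊗ₜ[k] 𝟙 _) := by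
        rw [TensorProduct.tmul_smul, TensorProduct.smul_tmul', TensorProduct.smul_tmul', Algebra.smul_def,
          mul_comm (algebraMap k K b)]
        simp
      rw [h1, map_smul, θ_one, CategoryTheory.Functor.map_id]
    | add x y hx hy =>
      obtain ⟨a, ha⟩ := hx
      obtain ⟨b, hb⟩ := hy
      exact ⟨a + b, by rw [map_add, ha, hb, add_smul]⟩
  obtain ⟨a, ha⟩ := key t
  refine ⟨a, ?_⟩
  rw [ht] at ha
  have := congrArg (fun z => u.inv ≫ z ≫ u.hom) ha
  simpa using this

/-- Scalar endomorphisms of the structure module give scalar endomorphisms of invertible modules. -/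
theorem exists_smul_id_of_structure {Y : Scheme.{u}} [Y.Over (Spec (CommRingCat.of K))]
    (h : ∀ f : Coh.structureModule Y ⟶ Coh.structureModule Y, ∃ a : K, f = a • 𝟙 _)
    {L : Y.Modules} (hL : PicF.IsInvertible L) (φ : L ⟶ L) : ∃ c : K, φ = c • 𝟙 L := by
  obtain ⟨s, hs⟩ := H23.EndInv.exists_coeff hL φ
  obtain ⟨a, ha⟩ := h (Formal.smulModΓ (Coh.structureModule Y) (show Coh.Γtop Y from s))
  refine ⟨a, Scheme.Modules.hom_ext _ _ fun W => ?_⟩
  ext l
  have h1 := congrArg (fun t : Coh.structureModule Y ⟶ Coh.structureModule Y => t.app W (H23.Frame.one W)) ha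
  simp only at h1
  rw [KLin.smul_app_apply] at h1
  rw [hs, KLin.smul_app_apply]
  refine congrArg (· • l) ?_
  exact (mul_one (M := Γ(Y, W)) _).symm.trans (h1.trans (mul_one (M := Γ(Y, W)) _))

include hov in
/-- Multiplicities of mutually inverse types divide each other. -/
theorem dvd_of_dual [IsLocallyNoetherian X] {W W' : X.Modules} (hW : FlatMod.IsFinLocFree W) (hW' : Coh.IsCoh W')
    (hi : Indec W) {N N' : (W4bk4gw11416.baseChange (X ↘ Spec (CommRingCat.of k)) K).Modules}
    (hN : ∀ φ : N ⟶ N, ∃ c : K, φ = c • 𝟙 N) (hN0 : 𝟙 N ≠ 0)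
    (hNN : CohB1.tensorMod N N' ≅ Coh.structureModule (W4bk4gw11416.baseChange (X ↘ Spec (CommRingCat.of k)) K))
    (hK : ∀ f : Coh.structureModule (W4bk4gw11416.baseChange (X ↘ Spec (CommRingCat.of k)) K) ⟶
      Coh.structureModule (W4bk4gw11416.baseChange (X ↘ Spec (CommRingCat.of k)) K), ∃ a : K, f = a • 𝟙 _)
    (hK0 : 𝟙 (Coh.structureModule (W4bk4gw11416.baseChange (X ↘ Spec (CommRingCat.of k)) K)) ≠ 0)
    {r r' : ℕ} (hr : 0 < r) (ht : bcMod (X ↘ Spec (CommRingCat.of k)) K W ≅ pow N r)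
    (ht' : bcMod (X ↘ Spec (CommRingCat.of k)) K W' ≅ pow N' r') : r ∣ r' := by
  haveI : CompactSpace X := QuasiCompact.compactSpace_of_compactSpace (X ↘ Spec (CommRingCat.of k))
  have hpb := isPullback_bc k K hov
  have hWc := CurveDeg.isCoh_of_isFinLocFree hW
  haveI := finite_hom k hWc hWc
  haveI : IsSimpleRing (End W) := isSimpleRing_end_of_schur k K _ hpb hWc hi.1 (decOfIso ht) hN
  have hunit : ∀ f : End W, IsUnit f ∨ f = 0 := fun f => or_iff_not_imp_right.2 fun hf =>
    (isUnit_iff_isIso f).2 (isIso_of_simple k hi f hf)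
  haveI : Nontrivial (End W) := ⟨⟨𝟙 W, 0, hi.id_ne_zero⟩⟩
  letI : DivisionRing (End W) := DivisionRing.ofIsUnitOrEqZero hunit
  have h1 : ∀ {Q : (W4bk4gw11416.baseChange (X ↘ Spec (CommRingCat.of k)) K).Modules},
      (∀ φ : Q ⟶ Q, ∃ c : K, φ = c • 𝟙 Q) → 𝟙 Q ≠ 0 → Module.finrank K (Q ⟶ Q) = 1 := fun hQ hQ0 =>
    finrank_eq_one _ hQ0 fun φ => let ⟨c, hc⟩ := hQ φ; ⟨c, hc.symm⟩
  have hfin : ∀ {F G : X.Modules} (_ : Coh.IsCoh F) (_ : Coh.IsCoh G)
      {Q : (W4bk4gw11416.baseChange (X ↘ Spec (CommRingCat.of k)) K).Modules}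
      (_ : Module.finrank K (Q ⟶ Q) = 1) {a b : ℕ}
      (_ : Dec ((Scheme.Modules.pullback (proj (X ↘ Spec (CommRingCat.of k)) K)).obj F) fun _ : Fin a => Q)
      (_ : Dec ((Scheme.Modules.pullback (proj (X ↘ Spec (CommRingCat.of k)) K)).obj G) fun _ : Fin b => Q),
      Module.finrank k (F ⟶ G) = a * b := by
    intro F G hF hG Q hQ a b dF dG
    let E := LinearEquiv.ofBijective (θ k K (proj (X ↘ Spec (CommRingCat.of k)) K) hpb F G)
      ⟨θ_injective k K _ hpb hG.1, θ_surjective k K _ hpb hF hG.1⟩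
    haveI : Module.Finite K (Q ⟶ Q) := Module.finite_of_finrank_pos (by rw [hQ]; exact Nat.one_pos)
    rw [← Module.finrank_baseChange (R := K) (S := k) (M' := (F ⟶ G)),
      (E.trans (dF.homEquiv (R := K) dG)).finrank_eq, Module.finrank_pi_fintype,
      Finset.sum_congr rfl fun q _ => hQ]
    simp [Fintype.card_prod]
  obtain ⟨iT⟩ := nonempty_bc_tensor ht ht' hNN
  have hO : Dec ((Scheme.Modules.pullback (proj (X ↘ Spec (CommRingCat.of k)) K)).obj (Coh.structureModule X))
      (fun _ : Fin 1 => Coh.structureModule (W4bk4gw11416.baseChange (X ↘ Spec (CommRingCat.of k)) K)) :=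
    decOfIso (CurveBC.unitIso _ ≪≫ (coproductUniqueIso fun _ : Fin 1 =>
      Coh.structureModule (W4bk4gw11416.baseChange (X ↘ Spec (CommRingCat.of k)) K)).symm)
  have hd : Module.finrank k (Coh.structureModule X ⟶ CohB1.tensorMod W W') = r * r' :=
    (hfin QCoh.isCoh_structureModule' (CurveTensor.isCoh_tensor hW hW') (h1 hK hK0) hO (decOfIso iT)).trans
      (one_mul _)
  let Φ : X.Modules ⥤ X.Modules := DCoh.tensorBi.flip.obj W'
  haveI : Φ.Additive := SBBundle.additive_tensorBi_flip' W'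
  haveI : Φ.Linear k := SBBundle.linear_tensorBi_flip_obj k W'
  letI : Module (End W) (Coh.structureModule X ⟶ Φ.obj W) :=
    { smul := fun d h => h ≫ Φ.map d
      one_smul := fun h => (congrArg (h ≫ ·) (Φ.map_id W)).trans (Category.comp_id h)
      mul_smul := fun d d' h =>
        (congrArg (h ≫ ·) (Φ.map_comp d' d)).trans (Category.assoc _ _ _).symm
      smul_zero := fun d => zero_comp
      smul_add := fun d h h' => Preadditive.add_comp _ _ _ _ _ _
      add_smul := fun d d' h => (congrArg (h ≫ ·) (Φ.map_add (f := d) (g := d'))).trans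
        (Preadditive.comp_add _ _ _ _ _ _)
      zero_smul := fun h => (congrArg (h ≫ ·) (Φ.map_zero W W)).trans comp_zero }
  haveI : IsScalarTower k (End W) (Coh.structureModule X ⟶ Φ.obj W) :=
    ⟨fun c d h => by
      show h ≫ Φ.map (c • d) = c • (h ≫ Φ.map d)
      rw [Φ.map_smul, Linear.comp_smul]⟩
  have hkey := Module.finrank_mul_finrank k (End W) (Coh.structureModule X ⟶ Φ.obj W)
  have hD : Module.finrank k (End W) = r * r := hfin hWc hWc (h1 hN hN0) (decOfIso ht) (decOfIso ht)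
  rw [hD, show Module.finrank k (Coh.structureModule X ⟶ Φ.obj W) = r * r' from hd, mul_assoc] at hkey
  exact ⟨_, (Nat.eq_of_mul_eq_mul_left hr hkey).symm⟩

end Dual

end Groth.Agent.ASBunK
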