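import Groth.Agent.ASBunK.SplitEt
import Groth.Agent.ASBunK.TypeCalc
import Groth.Agent.Pi1Ext.SepClosureLim
import Groth.Agent.S4788
import Groth.Agent.FTDescent.FP
import Groth.Agent.KFlatLib.Perfect.Tensor

/-!
# Galois invariant modules over a separable closure
-/

set_option autoImplicit false
set_option backward.isDefEq.respectTransparency false
set_option backward.isDefEq.respectTransparency.types false
set_option linter.style.haveILetI false

universe u

open CategoryTheory CategoryTheory.Limits AlgebraicGeometry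
open W4c1astiltbs12

noncomputable section

namespace Groth.Agent.ASBunK

variable {k K : Type u} [Field k] [Field K] [Algebra k K] {X : Scheme.{u}}
  (p : X ⟶ Spec (CommRingCat.of k))

theorem surjective_specMap (L M : Type u) [Field L] [Field M] (φ : L →+* M) :
    Surjective (Spec.map (CommRingCat.ofHom φ)) :=
  ⟨fun y => ⟨show PrimeSpectrum M from ⊥, Subsingleton.elim (α := PrimeSpectrum L) _ y⟩⟩

theorem flat_specMap (L M : Type u) [Field L] [Field M] (φ : L →+* M) :
    Flat (Spec.map (CommRingCat.ofHom φ)) := by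
  rw [Flat.SpecMap_iff]
  algebraize [φ]
  exact (inferInstance : Module.Flat L M)

/-- A finite locally free module over a separable closure is defined over a finite subextension. -/
theorem exists_model [IsProper p] [IsSepClosure k K] (W : (W4bk4gw11416.baseChange p K).Modules)
    (hW : FlatMod.IsFinLocFree W) :
    ∃ (L : IntermediateField k K) (_ : FiniteDimensional k L) (_ : Algebra.IsSeparable k L)
      (E : (pullback p (strField k L)).Modules), FlatMod.IsFinLocFree E ∧
      Nonempty ((Scheme.Modules.pullback (projEmb p L.val)).obj E ≅ W) := by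
  classical
  open Pi1Ext.SepLim in
  haveI : CompactSpace X := QuasiCompact.compactSpace_of_compactSpace p
  haveI : QuasiSeparatedSpace X := quasiSeparatedSpace_of_quasiSeparated p
  haveI : Algebra.IsSeparable k K := IsSepClosure.separable
  haveI : CompactSpace ↥((Pi1Ext.SepLim.diag k K p).obj (Opposite.op ∅)) := inferInstance
  haveI hWq : Coh.IsQCoh W := QCoh.isQCoh_of_isFinLocFree hW
  obtain ⟨s, -, E, hEq, -, ⟨e⟩⟩ := Groth.Agent.S4788.result (Pi1Ext.SepLim.diag k K p)
    (Pi1Ext.SepLim.cone k K p) (Pi1Ext.SepLim.isLimitCone k K p) (Opposite.op ∅) W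
    (QCoh.isFinLocFree_iff.1 hW).1
  let L := Pi1Ext.SepLim.sub k K s.unop
  haveI : FiniteDimensional k L :=
    IntermediateField.finiteDimensional_adjoin fun x _ =>
      (Algebra.IsSeparable.isSeparable k x).isIntegral
  refine ⟨L, inferInstance, Algebra.isSeparable_tower_bot_of_isSeparable k L K, E, ?_, ⟨?_⟩⟩
  · have hpb := Pi1Ext.SepLim.isPullback_proj k K p s
    haveI : Flat (Pi1Ext.SepLim.proj k K p s) :=
      MorphismProperty.of_isPullback (P := @Flat) hpb.flip (flat_specMap L K L.val.toRingHom)
    haveI : Surjective (Pi1Ext.SepLim.proj k K p s) :=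
      MorphismProperty.of_isPullback (P := @Surjective) hpb.flip (surjective_specMap L K L.val.toRingHom)
    haveI : QuasiCompact (Pi1Ext.SepLim.proj k K p s) :=
      MorphismProperty.of_isPullback (P := @QuasiCompact) hpb.flip
        (inferInstanceAs (QuasiCompact (Spec.map (CommRingCat.ofHom L.val.toRingHom))))
    refine FTDescent.isFinLocFree_of_pullback (Pi1Ext.SepLim.proj k K p s) hEq ?_
    exact H23.PullPush.isFinLocFree_of_iso e.symm hW
  · refine (Scheme.Modules.pullbackCongr ?_).app E ≪≫ e
    refine pullback.hom_ext ?_ ?_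
    · exact (projEmb_fst p L.val).trans (pullback.lift_fst _ _ _).symm
    · exact (projEmb_snd p L.val).trans (pullback.lift_snd _ _ _).symm

theorem galAct_fst (σ : K ≃ₐ[k] K) : galAct p K σ ≫ proj p K = proj p K :=
  (pullback.lift_fst _ _ _).trans (Category.comp_id _)

theorem galAct_snd (σ : K ≃ₐ[k] K) : galAct p K σ ≫ W4bk4gw11416.baseChangeTo p K =
    W4bk4gw11416.baseChangeTo p K ≫ Spec.map (CommRingCat.ofHom (σ : K →+* K)) :=
  pullback.lift_snd _ _ _

theorem galAct_projEmb (L : IntermediateField k K) (σ : K ≃ₐ[k] K) :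
    galAct p K σ ≫ projEmb p L.val = projEmb p (σ.toAlgHom.comp L.val) := by
  refine pullback.hom_ext ?_ ?_
  · rw [Category.assoc, projEmb_fst, projEmb_fst, galAct_fst]
  · rw [Category.assoc, projEmb_snd, projEmb_snd, ← Category.assoc, galAct_snd, Category.assoc, ← Spec.map_comp]
    rfl

/-- An embedding of a subfield of a normal extension extends to an automorphism. -/
theorem exists_extend [Normal k K] (L : IntermediateField k K) (σ : L →ₐ[k] K) :
    ∃ τ : K ≃ₐ[k] K, τ.toAlgHom.comp L.val = σ := by
  let φ : K →ₐ[k] K := σ.liftNormal K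
  refine ⟨AlgEquiv.ofBijective φ (Algebra.IsAlgebraic.algHom_bijective φ), AlgHom.ext fun x => ?_⟩
  exact σ.liftNormal_commutes K x

/-- A Galois invariant finite locally free module is, up to multiplicity, defined over the base. -/
theorem exists_form_pow [IsProper p] [IsSepClosure k K] (W : (W4bk4gw11416.baseChange p K).Modules)
    (hW : FlatMod.IsFinLocFree W)
    (hinv : ∀ σ : K ≃ₐ[k] K, Nonempty ((Scheme.Modules.pullback (galAct p K σ)).obj W ≅ W)) :
    ∃ (M : X.Modules) (d : ℕ), FlatMod.IsFinLocFree M ∧ 0 < d ∧ Nonempty (bcMod p K M ≅ pow W d) := by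
  classical
  haveI : IsSepClosed K := IsSepClosure.sep_closed k
  haveI : IsGalois k K := IsSepClosure.isGalois
  obtain ⟨L, _, _, E, hE, ⟨e⟩⟩ := exists_model p W hW
  haveI : Coh.IsQCoh E := QCoh.isQCoh_of_isFinLocFree hE
  let π := pullback.fst p (strField k L)
  let M := (Scheme.Modules.pushforward π).obj E
  obtain ⟨e₁⟩ := nonempty_pullback_push p E (K := K)
  have e₂ : ∀ σ : L →ₐ[k] K, Nonempty ((Scheme.Modules.pullback (projEmb p σ)).obj E ≅ W) := fun σ => by
    obtain ⟨τ, rfl⟩ := exists_extend L σ
    obtain ⟨i⟩ := hinv τ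
    exact ⟨(Scheme.Modules.pullbackCongr (galAct_projEmb p L τ).symm).app E ≪≫
      ((Scheme.Modules.pullbackComp (galAct p K τ) (projEmb p L.val)).app E).symm ≪≫
      (Scheme.Modules.pullback (galAct p K τ)).mapIso e ≪≫ i⟩
  let d := Fintype.card (L →ₐ[k] K)
  let i₁ : (∐ fun _ : (L →ₐ[k] K) => W) ≅ ∐ fun _ : Fin d => W :=
    Sigma.whiskerEquiv (f := fun _ : (L →ₐ[k] K) => W) (g := fun _ : Fin d => W)
      (Fintype.equivFin (L →ₐ[k] K)) (fun _ => Iso.refl W)
  let eW : bcMod p K M ≅ pow W d :=
    e₁ ≪≫ Sigma.mapIso (fun σ => (e₂ σ).some) ≪≫ i₁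
  refine ⟨M, d, ?_, Fintype.card_pos_iff.2 ⟨L.val⟩, ⟨eW⟩⟩
  haveI : IsAffineHom π := MorphismProperty.pullback_fst _ _ inferInstance
  haveI : QuasiCompact π := inferInstance
  haveI : QuasiSeparated π := inferInstance
  haveI : Flat (proj p K) := MorphismProperty.pullback_fst _ _ (flat_specMap k K _)
  haveI : Surjective (proj p K) := MorphismProperty.pullback_fst _ _ (surjective_specMap k K _)
  haveI : QuasiCompact (proj p K) := MorphismProperty.pullback_fst _ _ inferInstance
  refine FTDescent.isFinLocFree_of_pullback (proj p K) (QCoh.isQCoh_pushforward π inferInstance) ?_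
  exact H23.PullPush.isFinLocFree_of_iso eW.symm
    (KFlatLib.isFinLocFree_sigma _ Finset.univ (fun i hi => absurd (Finset.mem_univ i) hi) fun _ => hW)

/-- A Galois invariant indecomposable module gives an indecomposable module of that type on the base. -/
theorem exists_indec_of_invariant [IsProper p] [IsSepClosure k K] (W : (W4bk4gw11416.baseChange p K).Modules)
    (hW : FlatMod.IsFinLocFree W) (hWi : Indec W)
    (hinv : ∀ σ : K ≃ₐ[k] K, Nonempty ((Scheme.Modules.pullback (galAct p K σ)).obj W ≅ W)) :
    ∃ (M : X.Modules) (r : ℕ), FlatMod.IsFinLocFree M ∧ Indec M ∧ 0 < r ∧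
      Nonempty (bcMod p K M ≅ pow W r) := by
  haveI := isLocallyNoetherian_of_proper k p
  obtain ⟨M, d, hM, hd, ⟨e⟩⟩ := exists_form_pow p W hW hinv
  obtain ⟨G, c, s, hG, hR, -, hs, -, hbc⟩ :=
    exists_indec_of_type k p K hWi (CurveDeg.isCoh_of_isFinLocFree hM) hd e
  exact ⟨G, s, isFinLocFree_of_isRetr hR hM, hG, hs, hbc⟩

end Groth.Agent.ASBunK
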