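import Groth.Agent.ASBunK.KSThm
import Mathlib.LinearAlgebra.TensorProduct.Tower
import Mathlib.LinearAlgebra.Dimension.Constructions
import Mathlib.RingTheory.TensorProduct.Maps
import Mathlib.LinearAlgebra.FreeModule.StrongRankCondition

/-!
# Noether–Deuring: objects isomorphic after extension of scalars are isomorphic
-/

set_option autoImplicit false

universe w w' v u

open CategoryTheory CategoryTheory.Limits TensorProduct

namespace Groth.Agent.ASBunK

variable {C : Type u} [Category.{v} C] [Abelian C] (k : Type w) [Field k] [Linear k C]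
  (K : Type w') [CommRing K] [Algebra k K]

/-- Composition extended to `K ⊗ Hom`. -/
noncomputable def tcomp (A B D : C) :
    K ⊗[k] (A ⟶ B) →ₗ[K] K ⊗[k] (B ⟶ D) →ₗ[K] K ⊗[k] (A ⟶ D) :=
  LinearMap.liftBaseChange K ((LinearMap.baseChangeHom k K (B ⟶ D) (A ⟶ D)).comp (Linear.comp A B D))

theorem tcomp_tmul {A B D : C} (c d : K) (f : A ⟶ B) (g : B ⟶ D) :
    tcomp k K A B D (c ⊗ₜ f) (d ⊗ₜ g) = (c * d) ⊗ₜ (f ≫ g) := by
  simp [tcomp, TensorProduct.smul_tmul']

variable {P : C} [Module.Finite k (P ⟶ P)] (hP : Indec P)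

/-- The action of `K ⊗ Hom` on the tops. -/
noncomputable def ttop (A B : C) :
    K ⊗[k] (A ⟶ B) →ₗ[K] K ⊗[k] Top k hP A →ₗ[K] K ⊗[k] Top k hP B :=
  LinearMap.liftBaseChange K ((LinearMap.baseChangeHom k K _ _).comp (topMap k hP A B))

theorem ttop_tmul {A B : C} (c : K) (f : A ⟶ B) (d : K) (x : Top k hP A) :
    ttop k K hP A B (c ⊗ₜ f) (d ⊗ₜ x) = (c * d) ⊗ₜ topMap k hP A B f x := by
  simp [ttop, TensorProduct.smul_tmul']

theorem ttop_tcomp {A B D : C} (a : K ⊗[k] (A ⟶ B)) (b : K ⊗[k] (B ⟶ D)) (z : K ⊗[k] Top k hP A) :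
    ttop k K hP B D b (ttop k K hP A B a z) = ttop k K hP A D (tcomp k K A B D a b) z := by
  induction a using TensorProduct.induction_on with
  | zero => simp
  | add a a' ha ha' => simp [ha, ha']
  | tmul c f =>
    induction b using TensorProduct.induction_on with
    | zero => simp
    | add b b' hb hb' => simp [hb, hb']
    | tmul d g =>
      induction z using TensorProduct.induction_on with
      | zero => simp
      | add z z' hz hz' => simp only [map_add, hz, hz']
      | tmul e x =>
        rw [ttop_tmul, ttop_tmul, tcomp_tmul, ttop_tmul, topMap_comp]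
        rw [mul_left_comm d c e, mul_assoc]

theorem ttop_id {A : C} (z : K ⊗[k] Top k hP A) :
    ttop k K hP A A ((1 : K) ⊗ₜ 𝟙 A) z = z := by
  induction z using TensorProduct.induction_on with
  | zero => simp
  | add z z' hz hz' => rw [map_add, hz, hz']
  | tmul e x => rw [ttop_tmul, topMap_id, one_mul]

/-- Inverse elements of `K ⊗ Hom` give isomorphic objects. -/
theorem nonempty_iso_of_tensor [Nontrivial K] {F G : C} [Module.Finite k (F ⟶ F)]
    [Module.Finite k (G ⟶ G)] [Module.Finite k (F ⟶ G)] [Module.Finite k (G ⟶ F)]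
    (a : K ⊗[k] (F ⟶ G)) (b : K ⊗[k] (G ⟶ F))
    (hab : tcomp k K F G F a b = (1 : K) ⊗ₜ 𝟙 F) (hba : tcomp k K G F G b a = (1 : K) ⊗ₜ 𝟙 G) :
    Nonempty (F ≅ G) := by
  refine nonempty_iso_of_finrank_top_eq k F G fun P hP _ _ => ?_
  let e : K ⊗[k] Top k hP F ≃ₗ[K] K ⊗[k] Top k hP G :=
    LinearEquiv.ofLinearMap (ttop k K hP F G a) (ttop k K hP G F b)
      (LinearMap.ext fun z => by
        show ttop k K hP F G a (ttop k K hP G F b z) = z
        rw [ttop_tcomp, hba, ttop_id])
      (LinearMap.ext fun z => by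
        show ttop k K hP G F b (ttop k K hP F G a z) = z
        rw [ttop_tcomp, hab, ttop_id])
  have := e.finrank_eq
  rwa [Module.finrank_baseChange, Module.finrank_baseChange] at this

end Groth.Agent.ASBunK
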