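import Groth.Agent.QCoh.FlatBC
import Groth.Agent.Lib.FlatSections
import Groth.Agent.ArtFunLib.FamilyHom
import Groth.Agent.FFun.GoodM
import Groth.Agent.ASBunK.NoetherDeuring
import Groth.Prelude.Def_KLin
import Mathlib.LinearAlgebra.TensorProduct.Basis
import Mathlib.LinearAlgebra.Basis.VectorSpace

/-!
# Base change of `Hom` of coherent modules along a field extension

For `X'` the base change of a quasi-compact `k`-scheme `X` to a `k`-algebra `K`, and a
finite type quasi-coherent `F` and a quasi-coherent `G`, pullback induces a bijection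
`K ⊗ Hom(F, G) ≅ Hom(g^* F, g^* G)`.
-/

set_option autoImplicit false
set_option backward.isDefEq.respectTransparency false
set_option backward.isDefEq.respectTransparency.types false
set_option linter.style.haveILetI false
set_option linter.unusedSectionVars false

universe u

open CategoryTheory CategoryTheory.Limits AlgebraicGeometry TopologicalSpace Opposite
open scoped TensorProduct

noncomputable section

namespace Groth.Agent.ASBunK

open Groth.Agent.QCoh

/-- The coordinate attached to a linear form on the left factor. -/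
def co {k K : Type*} [Field k] [CommRing K] [Algebra k K] (l : K →ₗ[k] k) (M : Type*)
    [AddCommGroup M] [Module k M] : K ⊗[k] M →ₗ[k] M :=
  (TensorProduct.lid k M).toLinearMap.comp (LinearMap.rTensor M l)

theorem co_tmul {k K : Type*} [Field k] [CommRing K] [Algebra k K] (l : K →ₗ[k] k) {M : Type*}
    [AddCommGroup M] [Module k M] (c : K) (m : M) : co l M (c ⊗ₜ m) = l c • m := by
  simp [co]

theorem co_nat {k K : Type*} [Field k] [CommRing K] [Algebra k K] (l : K →ₗ[k] k) {M N : Type*}
    [AddCommGroup M] [Module k M] [AddCommGroup N] [Module k N] (f : M →ₗ[k] N) (z : K ⊗[k] M) :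
    co l N (f.baseChange K z) = f (co l M z) := by
  induction z using TensorProduct.induction_on with
  | zero => simp
  | tmul c m => rw [LinearMap.baseChange_tmul, co_tmul, co_tmul, map_smul]
  | add a b ha hb => simp only [map_add, ha, hb]

theorem equivFinsupp_eq_co {k K : Type*} [Field k] [CommRing K] [Algebra k K] {ι : Type*} [DecidableEq ι]
    (b : Module.Basis ι k K) {M : Type*} [AddCommGroup M] [Module k M] (z : K ⊗[k] M) (i : ι) :
    TensorProduct.equivFinsuppOfBasisLeft b z i = co (b.coord i) M z := by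
  induction z using TensorProduct.induction_on with
  | zero => simp
  | tmul c m => rw [TensorProduct.equivFinsuppOfBasisLeft_apply_tmul_apply, co_tmul, Module.Basis.coord_apply]
  | add x y hx hy => simp only [map_add, Finsupp.add_apply, hx, hy]

theorem co_ext {k K : Type*} [Field k] [CommRing K] [Algebra k K] {ι : Type*}
    (b : Module.Basis ι k K) {M : Type*} [AddCommGroup M] [Module k M] {z z' : K ⊗[k] M}
    (h : ∀ i, co (b.coord i) M z = co (b.coord i) M z') : z = z' :=
  haveI := Classical.decEq ι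
  (TensorProduct.equivFinsuppOfBasisLeft b).injective
    (Finsupp.ext fun i => by rw [equivFinsupp_eq_co, equivFinsupp_eq_co, h i])

/-- Morphisms out of an inverse image are determined on the pulled back sections of affine opens. -/
theorem pullback_hom_ext_affine {X X' : Scheme.{u}} (g : X' ⟶ X) {F : X.Modules} {N : X'.Modules}
    (u v : (Scheme.Modules.pullback g).obj F ⟶ N)
    (h : ∀ U : X.affineOpens, ∀ s : Γ(F, U.1),
      u.app (g ⁻¹ᵁ U.1) (secMap g ((Scheme.Modules.pullbackPushforwardAdjunction g).unit.app F) le_rfl s) =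
        v.app (g ⁻¹ᵁ U.1) (secMap g ((Scheme.Modules.pullbackPushforwardAdjunction g).unit.app F) le_rfl s)) :
    u = v := by
  let adj := Scheme.Modules.pullbackPushforwardAdjunction g
  have key : ∀ (w : (Scheme.Modules.pullback g).obj F ⟶ N) (U : X.Opens) (s : Γ(F, U)),
      (adj.homEquiv F N w).app U s = w.app (g ⁻¹ᵁ U) (secMap g (adj.unit.app F) le_rfl s) := by
    intro w U s
    show w.app (g ⁻¹ᵁ U) ((adj.unit.app F).app U s) =
      w.app (g ⁻¹ᵁ U) (((Scheme.Modules.pullback g).obj F).presheaf.map (homOfLE (le_refl (g ⁻¹ᵁ U))).op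
        ((adj.unit.app F).app U s))
    exact congrArg _ (ArtFunLib.FamilyHom.map_refl ((Scheme.Modules.pullback g).obj F) le_rfl _).symm
  refine (adj.homEquiv F N).injective (Scheme.Modules.hom_ext _ _ fun V => ?_)
  ext s
  refine ArtFunLib.FamilyHom.ext_affine _ V _ _ fun W hW => ?_
  rw [← map_app_comm _ (homOfLE hW) s, ← map_app_comm _ (homOfLE hW) s, key, key]
  exact h W _

variable (k : Type u) [Field k] {X : Scheme.{u}} [X.Over (Spec (CommRingCat.of k))]
  (K : Type u) [CommRing K] [Algebra k K] {X' : Scheme.{u}} [X'.Over (Spec (CommRingCat.of K))]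
  (g : X' ⟶ X)

local notation "ρ" => Coh.toGlobal (A := k) (X ↘ Spec (CommRingCat.of k))
local notation "ρ'" => Coh.toGlobal (A := K) (X' ↘ Spec (CommRingCat.of K))
/-- The unit of pullback and pushforward. -/
abbrev ηm (F : X.Modules) : F ⟶ (Scheme.Modules.pushforward g).obj ((Scheme.Modules.pullback g).obj F) :=
  (Scheme.Modules.pullbackPushforwardAdjunction g).unit.app F

/-- Evaluation at a section, as a linear map. -/
def evSec (F G : X.Modules) (U : X.Opens) (s : Γ(F, U)) :
    letI := secModule ρ G U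
    (F ⟶ G) →ₗ[k] Γ(G, U) :=
  letI := secModule ρ G U
  { toFun := fun f => f.app U s
    map_add' := fun _ _ => rfl
    map_smul' := fun a f => KLin.smul_app_apply a f U s }

variable (hpb : IsPullback g (X' ↘ Spec (CommRingCat.of K)) (X ↘ Spec (CommRingCat.of k))
  (Spec.map (CommRingCat.ofHom (algebraMap k K))))
include hpb

theorem hρ (a : k) : (ρ' (algebraMap k K a)) = g.appTop (ρ a) :=
  toGlobal_comm (X ↘ Spec (CommRingCat.of k)) (X' ↘ Spec (CommRingCat.of K)) g hpb.w a

/-- Multiplication of sections of `G` commutes with base change. -/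
def eSec (G : X.Modules) (U : X.Opens) :
    letI := secModule ρ G U
    letI := secModule ρ' ((Scheme.Modules.pullback g).obj G) (g ⁻¹ᵁ U)
    K ⊗[k] Γ(G, U) →ₗ[K] Γ((Scheme.Modules.pullback g).obj G, g ⁻¹ᵁ U) :=
  letI := secModule ρ G U
  letI := secModule ρ' ((Scheme.Modules.pullback g).obj G) (g ⁻¹ᵁ U)
  letI := secModule ((ρ').comp (algebraMap k K)) ((Scheme.Modules.pullback g).obj G) (g ⁻¹ᵁ U)
  haveI : IsScalarTower k K Γ((Scheme.Modules.pullback g).obj G, g ⁻¹ᵁ U) :=
    .of_algebraMap_smul fun _ _ => rfl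
  LinearMap.liftBaseChange K (secLin ρ ρ' g (ηm g G) (hρ k K g hpb) U _ le_rfl)

theorem eSec_tmul (G : X.Modules) (U : X.Opens) (c : K) (m : Γ(G, U)) :
    letI := secModule ρ G U
    letI := secModule ρ' ((Scheme.Modules.pullback g).obj G) (g ⁻¹ᵁ U)
    eSec k K g hpb G U (c ⊗ₜ m) = c • secMap g (ηm g G) le_rfl m := by
  letI := secModule ρ G U
  letI := secModule ρ' ((Scheme.Modules.pullback g).obj G) (g ⁻¹ᵁ U)
  letI := secModule ((ρ').comp (algebraMap k K)) ((Scheme.Modules.pullback g).obj G) (g ⁻¹ᵁ U)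
  haveI : IsScalarTower k K Γ((Scheme.Modules.pullback g).obj G, g ⁻¹ᵁ U) :=
    .of_algebraMap_smul fun _ _ => rfl
  exact LinearMap.liftBaseChange_tmul _ _ _ _

theorem eSec_bijective {G : X.Modules} (hG : Coh.IsQCoh G) {U : X.Opens} (hU : IsAffineOpen U) :
    letI := secModule ρ G U
    letI := secModule ρ' ((Scheme.Modules.pullback g).obj G) (g ⁻¹ᵁ U)
    Function.Bijective (eSec k K g hpb G U) := by
  letI := secModule ρ G U
  letI := secModule ρ' ((Scheme.Modules.pullback g).obj G) (g ⁻¹ᵁ U)
  letI := secModule ((ρ').comp (algebraMap k K)) ((Scheme.Modules.pullback g).obj G) (g ⁻¹ᵁ U)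
  haveI : IsScalarTower k K Γ((Scheme.Modules.pullback g).obj G, g ⁻¹ᵁ U) :=
    .of_algebraMap_smul fun _ _ => rfl
  have hbc : IsBaseChange K (secLin ρ ρ' g (ηm g G) (hρ k K g hpb) U (g ⁻¹ᵁ U) le_rfl) :=
    isAffineBC_of_isPullback hpb hG U hU
  refine (congrArg Function.Bijective (show (eSec k K g hpb G U : _ → _) = hbc.equiv from
    funext fun z => ?_)).mpr hbc.equiv.bijective
  induction z using TensorProduct.induction_on with
  | zero => simp only [map_zero]
  | add a b ha hb => simp only [map_add, ha, hb]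
  | tmul c m => rw [eSec_tmul, IsBaseChange.equiv_tmul]; rfl

theorem eSec_res (G : X.Modules) {U W : X.Opens} (h : W ≤ U) :
    letI := secModule ρ G U
    letI := secModule ρ G W
    letI := secModule ρ' ((Scheme.Modules.pullback g).obj G) (g ⁻¹ᵁ U)
    letI := secModule ρ' ((Scheme.Modules.pullback g).obj G) (g ⁻¹ᵁ W)
    ∀ z : K ⊗[k] Γ(G, U), AModX.res ((Scheme.Modules.pullback g).obj G) (g.preimage_mono h)
        (eSec k K g hpb G U z) =
      eSec k K g hpb G W ((FlatSections.resL ρ h).baseChange K z) :=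
  FlatSections.res_lin g ρ ρ' (hρ k K g hpb) (ηm g G) h

/-- Multiplication by a function on `U`. -/
def mulSec (G : X.Modules) (U : X.Opens) (r : Γ(X, U)) :
    letI := secModule ρ G U
    Γ(G, U) →ₗ[k] Γ(G, U) :=
  letI := secModule ρ G U
  { toFun := fun m => r • m
    map_add' := smul_add r
    map_smul' := fun a m => smul_comm r (X.presheaf.map (homOfLE (le_top : U ≤ ⊤)).op (Coh.toGlobal (X ↘ Spec (CommRingCat.of k)) a)) m }

theorem eSec_mulSec (G : X.Modules) (U : X.Opens) (r : Γ(X, U)) :
    letI := secModule ρ G U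
    letI := secModule ρ' ((Scheme.Modules.pullback g).obj G) (g ⁻¹ᵁ U)
    ∀ z : K ⊗[k] Γ(G, U), eSec k K g hpb G U ((mulSec k G U r).baseChange K z) =
      g.appLE U (g ⁻¹ᵁ U) le_rfl r • eSec k K g hpb G U z := by
  letI := secModule ρ G U
  letI := secModule ρ' ((Scheme.Modules.pullback g).obj G) (g ⁻¹ᵁ U)
  intro z
  induction z using TensorProduct.induction_on with
  | zero => simp only [map_zero, smul_zero]
  | add a b ha hb => simp only [map_add, ha, hb, smul_add]
  | tmul c m =>
    rw [LinearMap.baseChange_tmul, eSec_tmul, eSec_tmul]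
    show c • secMap g (ηm g G) le_rfl (r • m) = _
    rw [show secMap g (ηm g G) (le_refl (g ⁻¹ᵁ U)) (r • m) =
      g.appLE U (g ⁻¹ᵁ U) le_rfl r • secMap g (ηm g G) le_rfl m from pullSec_smul g G le_rfl r m]
    exact smul_comm _ _ _

theorem pullback_map_sec {F G : X.Modules} (f : F ⟶ G) (U : X.Opens) (s : Γ(F, U)) :
    ((Scheme.Modules.pullback g).map f).app (g ⁻¹ᵁ U) (secMap g (ηm g F) le_rfl s) =
      secMap g (ηm g G) le_rfl (f.app U s) := by
  have h := congr(($((Scheme.Modules.pullbackPushforwardAdjunction g).unit.naturality f)).app U s)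
  show _ = ((Scheme.Modules.pullback g).obj G).presheaf.map _ ((ηm g G).app U (f.app U s))
  rw [show (ηm g G).app U (f.app U s) =
    ((Scheme.Modules.pullback g).map f).app (g ⁻¹ᵁ U) ((ηm g F).app U s) from h]
  exact map_app_comm _ _ _

theorem pullback_map_smul {F G : X.Modules} (a : k) (f : F ⟶ G) :
    (Scheme.Modules.pullback g).map (a • f) =
      algebraMap k K a • (Scheme.Modules.pullback g).map f := by
  refine pullback_hom_ext_affine g _ _ fun U s => ?_
  rw [pullback_map_sec k K g hpb, KLin.smul_app_apply, KLin.smul_app_apply, pullback_map_sec k K g hpb]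
  letI := secModule ρ G U.1
  letI := secModule ρ' ((Scheme.Modules.pullback g).obj G) (g ⁻¹ᵁ U.1)
  letI := secModule ((ρ').comp (algebraMap k K)) ((Scheme.Modules.pullback g).obj G) (g ⁻¹ᵁ U.1)
  exact (secLin ρ ρ' g (ηm g G) (hρ k K g hpb) U.1 _ le_rfl).map_smul a (f.app U.1 s)

/-- Pullback, extended `K`-linearly to `K ⊗ Hom`. -/
def θ (F G : X.Modules) :
    K ⊗[k] (F ⟶ G) →ₗ[K] ((Scheme.Modules.pullback g).obj F ⟶ (Scheme.Modules.pullback g).obj G) :=
  letI : Module k ((Scheme.Modules.pullback g).obj F ⟶ (Scheme.Modules.pullback g).obj G) :=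
    Module.compHom _ (algebraMap k K)
  haveI : IsScalarTower k K ((Scheme.Modules.pullback g).obj F ⟶ (Scheme.Modules.pullback g).obj G) :=
    .of_algebraMap_smul fun _ _ => rfl
  LinearMap.liftBaseChange K
    { toFun := fun f => (Scheme.Modules.pullback g).map f
      map_add' := fun _ _ => Functor.map_add _
      map_smul' := fun a f => pullback_map_smul k K g hpb a f }

theorem θ_tmul {F G : X.Modules} (c : K) (f : F ⟶ G) :
    θ k K g hpb F G (c ⊗ₜ f) = c • (Scheme.Modules.pullback g).map f := by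
  letI : Module k ((Scheme.Modules.pullback g).obj F ⟶ (Scheme.Modules.pullback g).obj G) :=
    Module.compHom _ (algebraMap k K)
  haveI : IsScalarTower k K ((Scheme.Modules.pullback g).obj F ⟶ (Scheme.Modules.pullback g).obj G) :=
    .of_algebraMap_smul fun _ _ => rfl
  exact LinearMap.liftBaseChange_tmul _ _ _ _

theorem θ_one {F G : X.Modules} (f : F ⟶ G) :
    θ k K g hpb F G ((1 : K) ⊗ₜ f) = (Scheme.Modules.pullback g).map f := by
  rw [θ_tmul, one_smul]

theorem θ_tcomp {F G H : X.Modules} (a : K ⊗[k] (F ⟶ G)) (b : K ⊗[k] (G ⟶ H)) :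
    θ k K g hpb F H (tcomp k K F G H a b) = θ k K g hpb F G a ≫ θ k K g hpb G H b := by
  induction a using TensorProduct.induction_on with
  | zero => simp
  | add a a' ha ha' => simp [ha, ha', Preadditive.add_comp]
  | tmul c f =>
    induction b using TensorProduct.induction_on with
    | zero => simp
    | add b b' hb hb' => simp [hb, hb', Preadditive.comp_add]
    | tmul d h =>
      rw [tcomp_tmul, θ_tmul, θ_tmul, θ_tmul, Linear.smul_comp, Linear.comp_smul, smul_smul,
        Functor.map_comp]

theorem θ_sec {F G : X.Modules} (U : X.Opens) (s : Γ(F, U)) :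
    letI := secModule ρ G U
    letI := secModule ρ' ((Scheme.Modules.pullback g).obj G) (g ⁻¹ᵁ U)
    ∀ z : K ⊗[k] (F ⟶ G), (θ k K g hpb F G z).app (g ⁻¹ᵁ U) (secMap g (ηm g F) le_rfl s) =
      eSec k K g hpb G U ((evSec k F G U s).baseChange K z) := by
  letI := secModule ρ G U
  letI := secModule ρ' ((Scheme.Modules.pullback g).obj G) (g ⁻¹ᵁ U)
  intro z
  induction z using TensorProduct.induction_on with
  | zero => simp only [map_zero]; rfl
  | add a b ha hb =>
    simp only [map_add]
    exact congrArg₂ (· + ·) ha hb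
  | tmul c f =>
    rw [θ_tmul, LinearMap.baseChange_tmul, eSec_tmul, KLin.smul_app_apply, pullback_map_sec k K g hpb]
    rfl

theorem θ_injective {F G : X.Modules} (hG : Coh.IsQCoh G) : Function.Injective (θ k K g hpb F G) := by
  refine (injective_iff_map_eq_zero _).2 fun z hz => co_ext (Module.Basis.ofVectorSpace k K) fun i => ?_
  rw [map_zero]
  refine Scheme.Modules.hom_ext _ _ fun V => ?_
  ext s
  refine ArtFunLib.FamilyHom.ext_affine _ V _ _ fun W hW => ?_
  rw [← map_app_comm _ (homOfLE hW) s, ← map_app_comm _ (homOfLE hW) s]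
  letI := secModule ρ G W.1
  letI := secModule ρ' ((Scheme.Modules.pullback g).obj G) (g ⁻¹ᵁ W.1)
  set s' := F.presheaf.map (homOfLE hW).op s
  have h := θ_sec k K g hpb W.1 s' z
  rw [hz] at h
  have h2 : (evSec k F G W.1 s').baseChange K z = 0 :=
    (eSec_bijective k K g hpb hG W.2).1 (h.symm.trans (map_zero _).symm)
  show evSec k F G W.1 s' (co ((Module.Basis.ofVectorSpace k K).coord i) (F ⟶ G) z) = 0
  rw [← co_nat, h2, map_zero]

theorem θ_surjective [CompactSpace X] {F G : X.Modules} (hF : Coh.IsCoh F) (hG : Coh.IsQCoh G) :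
    Function.Surjective (θ k K g hpb F G) := by
  classical
  intro u
  letI : ∀ U : X.Opens, Module k Γ(G, U) := fun U => secModule ρ G U
  letI : ∀ U : X.Opens, Module K Γ((Scheme.Modules.pullback g).obj G, g ⁻¹ᵁ U) :=
    fun U => secModule ρ' ((Scheme.Modules.pullback g).obj G) (g ⁻¹ᵁ U)
  let E := fun U : X.affineOpens =>
    LinearEquiv.ofBijective (eSec k K g hpb G U.1) (eSec_bijective k K g hpb hG U.2)
  let w : ∀ (U : X.affineOpens), Γ(F, U.1) → K ⊗[k] Γ(G, U.1) := fun U s =>
    (E U).symm (u.app (g ⁻¹ᵁ U.1) (secMap g (ηm g F) le_rfl s))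
  have hw : ∀ (U : X.affineOpens) s, eSec k K g hpb G U.1 (w U s) =
      u.app (g ⁻¹ᵁ U.1) (secMap g (ηm g F) le_rfl s) := fun U s => (E U).apply_symm_apply _
  have hwadd : ∀ (U : X.affineOpens) s s', w U (s + s') = w U s + w U s' := fun U s s' =>
    (E U).injective <| by
      show eSec k K g hpb G U.1 _ = eSec k K g hpb G U.1 _
      rw [map_add, hw, hw, hw, secMap_add, map_add]
  have hwsmul : ∀ (U : X.affineOpens) (r : Γ(X, U.1)) s,
      w U (r • s) = (mulSec k G U.1 r).baseChange K (w U s) := fun U r s =>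
    (E U).injective <| by
      show eSec k K g hpb G U.1 _ = eSec k K g hpb G U.1 _
      rw [hw, eSec_mulSec, hw]
      rw [show secMap g (ηm g F) (le_refl (g ⁻¹ᵁ U.1)) (r • s) =
        g.appLE U.1 (g ⁻¹ᵁ U.1) le_rfl r • secMap g (ηm g F) le_rfl s from pullSec_smul g F le_rfl r s,
        Scheme.Modules.Hom.app_smul]
  have hwres : ∀ (U W : X.affineOpens) (h : W.1 ≤ U.1) s,
      (FlatSections.resL ρ h).baseChange K (w U s) = w W (F.presheaf.map (homOfLE h).op s) :=
    fun U W h s => (E W).injective <| by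
      show eSec k K g hpb G W.1 _ = eSec k K g hpb G W.1 _
      rw [← eSec_res, hw, hw]
      refine (map_app_comm u (homOfLE (g.preimage_mono h)) _).symm.trans (congrArg _ ?_)
      rw [map_secMap, secMap_map]
  let b := Module.Basis.ofVectorSpace k K
  have hf : ∀ i, ∃ f : F ⟶ G, ∀ (U : X.affineOpens) s, f.app U.1 s = co (b.coord i) _ (w U s) :=
    fun i => ArtFunLib.FamilyHom.exists_hom_of_family
      (fun U => AddMonoidHom.mk' (fun s => co (b.coord i) _ (w U s))
        (fun s s' => by rw [hwadd, map_add]))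
      (fun U W h s => by
        show FlatSections.resL ρ h (co (b.coord i) _ (w U s)) = co (b.coord i) _ (w W _)
        rw [← co_nat, hwres])
      (fun U r s => by
        show co (b.coord i) _ (w U (r • s)) = mulSec k G U.1 r (co (b.coord i) _ (w U s))
        rw [hwsmul, co_nat])
  choose f hf using hf
  obtain ⟨cov, hcov⟩ : ∃ c : Finset X.affineOpens, ∀ x : X, ∃ U ∈ c, x ∈ (U.1 : X.Opens) := by
    obtain ⟨s, hs⟩ := isCompact_univ.elim_finite_subcover (fun V : X.affineOpens => (V.1 : Set X)) (fun V => V.1.2)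
      (fun x _ => Set.mem_iUnion.2 (by
        obtain ⟨_, ⟨V, hV, rfl⟩, hxV, -⟩ := X.isBasis_affineOpens.exists_subset_of_mem_open (Set.mem_univ x) isOpen_univ
        exact ⟨⟨V, hV⟩, hxV⟩))
    exact ⟨s, fun x => by simpa using hs (Set.mem_univ x)⟩
  have hgen : ∀ U : X.affineOpens, ∃ S : Finset (Module.Basis.ofVectorSpaceIndex k K),
      ∀ i, i ∉ S → ∀ s : Γ(F, U.1), (f i).app U.1 s = 0 := by
    intro U
    obtain ⟨T, hT⟩ := (QCoh.finite_sections hF U.2).fg_top
    refine ⟨T.biUnion fun t => (TensorProduct.equivFinsuppOfBasisLeft b (w U t)).support, fun i hi s => ?_⟩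
    have hs : s ∈ Submodule.span Γ(X, U.1) (T : Set Γ(F, U.1)) := hT ▸ Submodule.mem_top
    induction hs using Submodule.span_induction with
    | mem t ht =>
      rw [hf, ← equivFinsupp_eq_co]
      by_contra h
      exact hi (Finset.mem_biUnion.2 ⟨t, ht, Finsupp.mem_support_iff.2 h⟩)
    | zero => exact map_zero _
    | add x y _ _ hx hy => rw [map_add, hx, hy, add_zero]
    | smul r x _ hx => rw [Scheme.Modules.Hom.app_smul, hx, smul_zero]
  choose S hS using hgen
  have hzero : ∀ i, i ∉ cov.biUnion S → f i = 0 := fun i hi =>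
    FFun.hom_eq_zero_of_cover hF.1 hG (f i) (fun U : (cov : Set X.affineOpens) => U.1.1)
      (fun U => U.1.2) (fun x => let ⟨U, hU, hx⟩ := hcov x; ⟨⟨U, hU⟩, hx⟩)
      fun U t => hS U.1 i (fun h => hi (Finset.mem_biUnion.2 ⟨U.1, U.2, h⟩)) t
  refine ⟨∑ i ∈ cov.biUnion S, b i ⊗ₜ f i, pullback_hom_ext_affine g _ _ fun U s => ?_⟩
  rw [θ_sec k K g hpb U.1 s, ← hw]
  refine congrArg _ (co_ext b fun j => ?_)
  rw [co_nat, map_sum, ← hf]
  show (∑ i ∈ cov.biUnion S, co (b.coord j) _ (b i ⊗ₜ[k] f i)).app U.1 s = (f j).app U.1 s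
  refine congrArg (fun φ : F ⟶ G => φ.app U.1 s) ?_
  simp only [co_tmul, Module.Basis.coord_apply, Module.Basis.repr_self, Finsupp.single_apply, ite_smul,
    one_smul, zero_smul, Finset.sum_ite_eq']
  split
  · rfl
  · exact (hzero j ‹_›).symm

end Groth.Agent.ASBunK
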