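import Groth.Agent.S0002
import Groth.Agent.RefX.QCoh
import Groth.Agent.Lib.RegEpiGen

/-!
# Finite-dimensional `Hom` between coherent modules on a proper scheme
-/

set_option autoImplicit false
set_option backward.isDefEq.respectTransparency false
set_option backward.isDefEq.respectTransparency.types false
set_option linter.style.haveILetI false
set_option linter.unusedSectionVars false

universe u

open CategoryTheory CategoryTheory.Limits AlgebraicGeometry TopologicalSpace Opposite

noncomputable section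

namespace Groth.Agent.ASBunK

variable (k : Type u) [Field k] {X : Scheme.{u}} [X.Over (Spec (CommRingCat.of k))]

theorem ofHom_smul {F G : X.Modules} (a : k) (φ : F ⟶ G) :
    RefHull.ofHom (a • φ) ⊤ =
      (show Γ(X, ⊤) from Coh.toGlobal (X ↘ Spec (CommRingCat.of k)) a) • RefHull.ofHom φ ⊤ := by
  refine RefX.sect_ext fun y => LinearMap.ext fun v => ?_
  obtain ⟨U, hy, m, rfl⟩ := TopCat.Presheaf.exists_germ_eq F.presheaf v
  rw [RefX.smul_val, RefHull.ofHom_apply, RefHull.ofHom_apply, LinearMap.smul_apply,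
    RefHull.stalkMapₗ_germ, RefHull.stalkMapₗ_germ, KLin.smul_app_apply, QCoh.germ_smul']
  exact congrArg (fun r => r • G.presheaf.germ U y.1 hy (φ.app U m))
    (TopCat.Presheaf.germ_res_apply X.presheaf (homOfLE (le_top : U ≤ ⊤)) y.1 hy _)

theorem ofHom_injective {F G : X.Modules} {φ ψ : F ⟶ G}
    (h : RefHull.ofHom φ ⊤ = RefHull.ofHom ψ ⊤) : φ = ψ := by
  refine Scheme.Modules.hom_ext _ _ fun U => ?_
  ext m
  refine ZClosLib.section_ext G _ _ fun y hy => ?_
  rw [← RefHull.stalkMapₗ_germ, ← RefHull.stalkMapₗ_germ,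
    ← RefHull.ofHom_apply φ ⊤ ⟨y, trivial⟩, ← RefHull.ofHom_apply ψ ⊤ ⟨y, trivial⟩, h]

/-- `Hom(F, G)` is finite-dimensional for coherent modules on a proper scheme over a field. -/
theorem finite_hom [IsProper (X ↘ Spec (CommRingCat.of k))] {F G : X.Modules} (hF : Coh.IsCoh F)
    (hG : Coh.IsCoh G) : Module.Finite k (F ⟶ G) := by
  haveI : IsLocallyNoetherian X := LocallyOfFiniteType.isLocallyNoetherian (X ↘ Spec (CommRingCat.of k))
  haveI := S0002.result k X _ (RefX.isCoh_homSh hF hG) 0
  haveI : Module.Finite k (Coh.structureModule X ⟶ RefHull.homSh F G) :=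
    Module.Finite.equiv (LinearEquiv.ofBijective _ (RegEpi.evalOneLin_bijective k (RefHull.homSh F G))).symm
  refine Module.Finite.of_injective
    ({ toFun := fun φ => InvX.ofSect (RefHull.ofHom φ ⊤)
       map_add' := fun φ ψ => RegEpi.hom_eq_of_one_eq _ _ (by
         show _ = RegEpi.one (InvX.ofSect (RefHull.ofHom φ ⊤)) + RegEpi.one (InvX.ofSect (RefHull.ofHom ψ ⊤))
         rw [RegEpi.one_ofSect, RegEpi.one_ofSect, RegEpi.one_ofSect]
         refine RefX.sect_ext fun y => LinearMap.ext fun v => ?_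
         obtain ⟨U, hy, m, rfl⟩ := TopCat.Presheaf.exists_germ_eq F.presheaf v
         show RefHull.stalkMapₗ (φ + ψ) y.1 _ = RefHull.stalkMapₗ φ y.1 _ + RefHull.stalkMapₗ ψ y.1 _
         rw [RefHull.stalkMapₗ_germ, RefHull.stalkMapₗ_germ, RefHull.stalkMapₗ_germ, ← map_add]
         first | done | rfl)
       map_smul' := fun a φ => RegEpi.hom_eq_of_one_eq _ _ (by
         refine (RegEpi.one_ofSect _).trans ((ofHom_smul k a φ).trans ?_)
         refine Eq.trans ?_ (KLin.smul_app_apply a (InvX.ofSect (RefHull.ofHom φ ⊤)) ⊤ (show Γ(Coh.structureModule X, ⊤) from (1 : Γ(X, ⊤)))).symm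
         exact congrArg₂ (fun (r : Γ(X, ⊤)) (t : Γ(RefHull.homSh F G, ⊤)) => r • t)
           (QCoh.ringMap_id _ _).symm (RegEpi.one_ofSect _).symm) } :
      (F ⟶ G) →ₗ[k] (Coh.structureModule X ⟶ RefHull.homSh F G)) fun φ ψ h => ?_
  refine ofHom_injective ?_
  have := congrArg RegEpi.one h
  exact (RegEpi.one_ofSect _).symm.trans (this.trans (RegEpi.one_ofSect _))

end Groth.Agent.ASBunK
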