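import Mathlib.CategoryTheory.Abelian.Basic
import Mathlib.CategoryTheory.Idempotents.Basic
import Mathlib.CategoryTheory.IsomorphismClasses
import Mathlib.CategoryTheory.Linear.Basic
import Mathlib.CategoryTheory.Limits.Shapes.Biproducts
import Mathlib.RingTheory.Artinian.Module
import Mathlib.RingTheory.Nilpotent.Basic
import Mathlib.LinearAlgebra.FiniteDimensional.Basic
import Mathlib.LinearAlgebra.Dimension.Constructions

/-!
# Krull–Schmidt for objects with finite-dimensional endomorphisms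

In a `k`-linear abelian category an object `F` with finite-dimensional endomorphism algebra is a
finite sum of indecomposable objects, and the multiplicity of an indecomposable `P` is read off
`dim Hom(P, F) / rad(P, F)`.
-/

set_option autoImplicit false

universe w v u

open CategoryTheory CategoryTheory.Limits

namespace Groth.Agent.ASBunK

variable {C : Type u} [Category.{v} C] [Abelian C]

/-- Indecomposable: nonzero, and one summand of any decomposition is zero. -/
def Indec (F : C) : Prop :=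
  ¬ IsZero F ∧ ∀ A B : C, Nonempty (F ≅ A ⊞ B) → IsZero A ∨ IsZero B

theorem Indec.congr {F G : C} (h : Indec F) (e : F ≅ G) : Indec G :=
  ⟨fun hG => h.1 (hG.of_iso e), fun A B ⟨e'⟩ => h.2 A B ⟨e ≪≫ e'⟩⟩

theorem Indec.id_ne_zero {F : C} (h : Indec F) : 𝟙 F ≠ 0 := fun h0 =>
  h.1 ((IsZero.iff_id_eq_zero F).2 h0)

/-- An idempotent of an indecomposable object is trivial. -/
theorem Indec.idem {F : C} (h : Indec F) (e : F ⟶ F) (he : e ≫ e = e) : e = 0 ∨ e = 𝟙 F := by
  obtain ⟨Y, i, p, hip, hpi⟩ := IsIdempotentComplete.idempotents_split F e he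
  obtain ⟨Z, j, q, hjq, hqj⟩ := IsIdempotentComplete.idempotents_split F (𝟙 F - e) (by
    simp [Preadditive.sub_comp, Preadditive.comp_sub, he])
  have hiq : i ≫ q = 0 := by
    have : (i ≫ q ≫ j) ≫ q = 0 := by
      rw [hqj, Preadditive.comp_sub, Category.comp_id, ← hpi, ← Category.assoc, hip, Category.id_comp,
        sub_self, zero_comp]
    simpa [Category.assoc, hjq] using this
  have hjp : j ≫ p = 0 := by
    have : (j ≫ p ≫ i) ≫ p = 0 := by
      have hj : j ≫ e = 0 := by
        have h2 : j ≫ (𝟙 F - e) = j := by rw [← hqj, ← Category.assoc, hjq, Category.id_comp]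
        simpa [Preadditive.comp_sub] using h2
      rw [hpi, hj, zero_comp]
    simpa [Category.assoc, hip] using this
  let φ : F ≅ Y ⊞ Z :=
    { hom := biprod.lift p q
      inv := biprod.desc i j
      hom_inv_id := by rw [biprod.lift_desc, hpi, hqj, add_sub_cancel]
      inv_hom_id := by apply biprod.hom_ext <;> apply biprod.hom_ext' <;> simp [hip, hjq, hiq, hjp] }
  rcases h.2 Y Z ⟨φ⟩ with hY | hZ
  · exact Or.inl (by rw [← hpi, hY.eq_of_tgt p 0, zero_comp])
  · refine Or.inr (sub_eq_zero.1 ?_).symm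
    rw [← hqj, hZ.eq_of_tgt q 0, zero_comp]

/-- A retract datum. -/
def IsRetr (P F : C) : Prop := ∃ (i : P ⟶ F) (p : F ⟶ P), i ≫ p = 𝟙 P

/-- A decomposition of `F` as the sum of the family `Fs`. -/
structure Dec {n : Type*} [Fintype n] [DecidableEq n] (F : C) (Fs : n → C) where
  ι : ∀ i, Fs i ⟶ F
  π : ∀ i, F ⟶ Fs i
  ι_π : ∀ i, ι i ≫ π i = 𝟙 _
  ι_π_ne : ∀ i j, i ≠ j → ι i ≫ π j = 0
  total : ∑ i, π i ≫ ι i = 𝟙 F

namespace Dec

variable {n : Type*} [Fintype n] [DecidableEq n] {F : C} {Fs : n → C}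

theorem isRetr (d : Dec F Fs) (i : n) : IsRetr (Fs i) F := ⟨d.ι i, d.π i, d.ι_π i⟩

/-- Transport along an isomorphism. -/
def ofIso {F' : C} (d : Dec F Fs) (e : F ≅ F') : Dec F' Fs where
  ι i := d.ι i ≫ e.hom
  π i := e.inv ≫ d.π i
  ι_π i := by simp [d.ι_π i]
  ι_π_ne i j h := by simp [d.ι_π_ne i j h]
  total := by
    have : ∀ i, (e.inv ≫ d.π i) ≫ d.ι i ≫ e.hom = e.inv ≫ (d.π i ≫ d.ι i) ≫ e.hom := fun i => by
      simp
    rw [Finset.sum_congr rfl fun i _ => this i, ← Preadditive.comp_sum, ← Preadditive.sum_comp,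
      d.total, Category.id_comp, e.inv_hom_id]

/-- The tautological decomposition of a finite coproduct. -/
noncomputable def coprod [Finite n] [HasCoproduct Fs] : Dec (∐ Fs) Fs where
  ι i := Sigma.ι Fs i
  π i := Sigma.desc fun j => if h : j = i then eqToHom (by rw [h]) else 0
  ι_π i := by simp
  ι_π_ne i j h := by simp [h]
  total := by
    refine Sigma.hom_ext _ _ fun j => ?_
    rw [Preadditive.comp_sum, Category.comp_id, Finset.sum_eq_single j]
    · simp
    · intro i _ hi; simp [Ne.symm hi]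
    · intro h; exact absurd (Finset.mem_univ j) h

/-- A decomposed object is the coproduct of the summands. -/
noncomputable def iso [HasCoproduct Fs] (d : Dec F Fs) : F ≅ ∐ Fs where
  hom := ∑ i, d.π i ≫ Sigma.ι Fs i
  inv := Sigma.desc d.ι
  hom_inv_id := by simp [Preadditive.sum_comp, d.total]
  inv_hom_id := by
    refine Sigma.hom_ext _ _ fun j => ?_
    rw [Category.comp_id, Sigma.ι_desc_assoc, Preadditive.comp_sum, Finset.sum_eq_single j]
    · rw [← Category.assoc, d.ι_π j, Category.id_comp]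
    · intro i _ hi; rw [← Category.assoc, d.ι_π_ne j i (Ne.symm hi), zero_comp]
    · intro h; exact absurd (Finset.mem_univ j) h

/-- Reindexing. -/
def reindex {m : Type*} [Fintype m] [DecidableEq m] (d : Dec F Fs) (e : m ≃ n) :
    Dec F (fun i => Fs (e i)) where
  ι i := d.ι (e i)
  π i := d.π (e i)
  ι_π i := d.ι_π _
  ι_π_ne i j h := d.ι_π_ne _ _ fun h' => h (e.injective h')
  total := by rw [← d.total]; exact e.sum_comp (fun j => d.π j ≫ d.ι j)

/-- Replacing the summands by isomorphic ones. -/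
def mapIso {Gs : n → C} (d : Dec F Fs) (e : ∀ i, Fs i ≅ Gs i) : Dec F Gs where
  ι i := (e i).inv ≫ d.ι i
  π i := d.π i ≫ (e i).hom
  ι_π i := by simp [reassoc_of% (d.ι_π i)]
  ι_π_ne i j h := by simp [reassoc_of% (d.ι_π_ne i j h)]
  total := by simp [d.total]

/-- Decomposition of a binary sum from decompositions of the summands. -/
noncomputable def sum {m : Type*} [Fintype m] [DecidableEq m] {G : C} {Gs : m → C}
    (d : Dec F Fs) (d' : Dec G Gs) : Dec (F ⊞ G) (Sum.elim Fs Gs) where
  ι := fun i => match i with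
    | .inl i => d.ι i ≫ biprod.inl
    | .inr i => d'.ι i ≫ biprod.inr
  π := fun i => match i with
    | .inl i => biprod.fst ≫ d.π i
    | .inr i => biprod.snd ≫ d'.π i
  ι_π := fun i => match i with
    | .inl i => by simp [d.ι_π i]
    | .inr i => by simp [d'.ι_π i]
  ι_π_ne := fun i j h => by
    rcases i with i | i <;> rcases j with j | j
    · show (d.ι i ≫ biprod.inl) ≫ biprod.fst ≫ d.π j = 0
      rw [Category.assoc, biprod.inl_fst_assoc, d.ι_π_ne i j (fun h' => h (congrArg _ h'))]
    · show (d.ι i ≫ biprod.inl) ≫ biprod.snd ≫ d'.π j = 0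
      rw [Category.assoc, biprod.inl_snd_assoc, zero_comp, comp_zero]
    · show (d'.ι i ≫ biprod.inr) ≫ biprod.fst ≫ d.π j = 0
      rw [Category.assoc, biprod.inr_fst_assoc, zero_comp, comp_zero]
    · show (d'.ι i ≫ biprod.inr) ≫ biprod.snd ≫ d'.π j = 0
      rw [Category.assoc, biprod.inr_snd_assoc, d'.ι_π_ne i j (fun h' => h (congrArg _ h'))]
  total := by
    have h1 : ∑ i, ((biprod.fst : F ⊞ G ⟶ F) ≫ d.π i) ≫ d.ι i ≫ (biprod.inl : F ⟶ F ⊞ G) =
        biprod.fst ≫ biprod.inl := by
      rw [Finset.sum_congr rfl fun i _ => (by simp : ((biprod.fst : F ⊞ G ⟶ F) ≫ d.π i) ≫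
          d.ι i ≫ (biprod.inl : F ⟶ F ⊞ G) = biprod.fst ≫ (d.π i ≫ d.ι i) ≫ biprod.inl),
        ← Preadditive.comp_sum, ← Preadditive.sum_comp, d.total, Category.id_comp]
    have h2 : ∑ i, ((biprod.snd : F ⊞ G ⟶ G) ≫ d'.π i) ≫ d'.ι i ≫ (biprod.inr : G ⟶ F ⊞ G) =
        biprod.snd ≫ biprod.inr := by
      rw [Finset.sum_congr rfl fun i _ => (by simp : ((biprod.snd : F ⊞ G ⟶ G) ≫ d'.π i) ≫
          d'.ι i ≫ (biprod.inr : G ⟶ F ⊞ G) = biprod.snd ≫ (d'.π i ≫ d'.ι i) ≫ biprod.inr),
        ← Preadditive.comp_sum, ← Preadditive.sum_comp, d'.total, Category.id_comp]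
    exact (Fintype.sum_sum_type _).trans ((congrArg₂ (· + ·) h1 h2).trans biprod.total)

end Dec

section Linear

variable (k : Type w) [Field k] [Linear k C]

/-- Hom out of a retract into a retract is finite-dimensional. -/
theorem finite_hom_of_retr {A A' B B' : C} [Module.Finite k (A ⟶ B)] (hA : IsRetr A' A)
    (hB : IsRetr B' B) : Module.Finite k (A' ⟶ B') := by
  obtain ⟨i, p, hip⟩ := hA
  obtain ⟨j, q, hjq⟩ := hB
  refine Module.Finite.of_injective
    ((Linear.rightComp k A j).comp (Linear.leftComp k B' p)) fun f g hfg => ?_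
  have : i ≫ ((p ≫ f) ≫ j) ≫ q = i ≫ ((p ≫ g) ≫ j) ≫ q := congrArg (fun t => i ≫ t ≫ q) hfg
  simpa [Category.assoc, hjq, reassoc_of% hip] using this

omit [Abelian C] in
theorem IsRetr.refl (F : C) : IsRetr F F := ⟨𝟙 F, 𝟙 F, Category.id_comp _⟩

/-- An endomorphism of an indecomposable object is invertible or nilpotent. -/
theorem Indec.isUnit_or_isNilpotent {F : C} (h : Indec F) [Module.Finite k (F ⟶ F)] (f : End F) :
    IsUnit f ∨ IsNilpotent f := by
  let L : Module.End k (F ⟶ F) := Linear.rightComp k F f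
  have hL : ∀ (n : ℕ) (g : F ⟶ F), (L ^ n) g = g ≫ (f ^ n : End F) := by
    intro n
    induction n with
    | zero => intro g; exact (Category.comp_id g).symm
    | succ n ih =>
      intro g
      rw [pow_succ', Module.End.mul_apply, ih, pow_succ', End.mul_def, ← Category.assoc]
      rfl
  obtain ⟨n, hn⟩ := Filter.eventually_atTop.1 L.eventually_isCompl_ker_pow_range_pow
  have hc := hn (n + 1) (Nat.le_succ n)
  obtain ⟨a, ha, b, hb, hab⟩ := Submodule.mem_sup.1
    (hc.sup_eq_top.symm ▸ Submodule.mem_top : 𝟙 F ∈ LinearMap.ker (L ^ (n+1)) ⊔ LinearMap.range (L ^ (n+1)))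
  obtain ⟨c, hc'⟩ := hb
  have ha' : a ≫ (f ^ (n + 1) : End F) = 0 := by rw [← hL]; exact ha
  have hidem : a ≫ a = a := by
    have h2 : a ≫ a + a ≫ b = a := by rw [← Preadditive.comp_add, hab, Category.comp_id]
    have hk : a ≫ a ∈ LinearMap.ker (L ^ (n + 1)) := by
      rw [LinearMap.mem_ker, hL, Category.assoc, ha', comp_zero]
    have hr : a ≫ b ∈ LinearMap.range (L ^ (n + 1)) :=
      ⟨a ≫ c, by rw [hL, Category.assoc, ← hL (n+1) c, hc']⟩
    have hk' : a ≫ b ∈ LinearMap.ker (L ^ (n + 1)) := by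
      rw [show a ≫ b = a - a ≫ a from eq_sub_of_add_eq' h2]
      exact Submodule.sub_mem _ ha hk
    rw [Submodule.disjoint_def.1 hc.disjoint _ hk' hr, add_zero] at h2
    exact h2
  rcases h.idem a hidem with rfl | rfl
  · left
    rw [zero_add] at hab
    rw [hab, hL] at hc'
    have hs : ((c ≫ (f ^ n : End F) : F ⟶ F) : F ⟶ F) ≫ f = 𝟙 F := by
      rw [Category.assoc, ← hc', pow_succ' f n, End.mul_def]
    have hsurj : Function.Surjective L := fun g =>
      ⟨g ≫ c ≫ (f ^ n : End F), by
        show (g ≫ c ≫ (f ^ n : End F)) ≫ f = g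
        rw [Category.assoc, hs, Category.comp_id]⟩
    have hinj : Function.Injective L := LinearMap.injective_iff_surjective.2 hsurj
    rw [isUnit_iff_isIso]
    refine ⟨⟨c ≫ (f ^ n : End F), hinj ?_, hs⟩⟩
    show (f ≫ c ≫ (f ^ n : End F)) ≫ f = 𝟙 F ≫ f
    rw [Category.assoc, hs, Category.comp_id, Category.id_comp]
  · right
    exact ⟨n + 1, by rw [Category.id_comp] at ha'; exact ha'⟩

theorem Indec.not_isIso_add {F : C} (h : Indec F) [Module.Finite k (F ⟶ F)] {f g : F ⟶ F}
    (hf : ¬ IsIso f) (hg : ¬ IsIso g) : ¬ IsIso (f + g) := by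
  suffices H : ∀ f g : End F, ¬ IsUnit f → ¬ IsUnit g → ¬ IsUnit (f + g) by
    intro hfg
    exact H f g (fun h' => hf ((isUnit_iff_isIso _).1 h')) (fun h' => hg ((isUnit_iff_isIso _).1 h'))
      ((isUnit_iff_isIso _).2 hfg)
  rintro f g hf hg ⟨u, hu⟩
  have h1 : (↑u⁻¹ : End F) * f + ↑u⁻¹ * g = 1 := by rw [← mul_add, ← hu, Units.inv_mul]
  have hnu : ¬ IsUnit ((↑u⁻¹ : End F) * f) := fun h' => hf ((Units.isUnit_units_mul u⁻¹ f).1 h')
  have hnil := (h.isUnit_or_isNilpotent k _).resolve_left hnu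
  have : IsUnit ((↑u⁻¹ : End F) * g) := by
    rw [eq_sub_of_add_eq' h1]; exact hnil.isUnit_one_sub
  exact hg ((Units.isUnit_units_mul u⁻¹ g).1 this)

/-- The radical `rad(P, F)` for an indecomposable `P`. -/
def rad (P F : C) [Module.Finite k (P ⟶ P)] (hP : Indec P) : Submodule k (P ⟶ F) where
  carrier := {f | ∀ g : F ⟶ P, ¬ IsIso (f ≫ g)}
  zero_mem' g := by
    rw [zero_comp]
    intro h0
    exact hP.id_ne_zero ((IsIso.hom_inv_id (0 : P ⟶ P)).symm.trans zero_comp)
  add_mem' {f f'} hf hf' g := by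
    rw [Preadditive.add_comp]
    exact hP.not_isIso_add k (hf g) (hf' g)
  smul_mem' c f hf g := by
    rw [Linear.smul_comp, ← Linear.comp_smul]
    exact hf _

variable {P : C} [Module.Finite k (P ⟶ P)] (hP : Indec P)

/-- The top `Hom(P, F)/rad(P, F)`. -/
abbrev Top (F : C) : Type v := (P ⟶ F) ⧸ rad k P F hP

theorem rad_le_comap {F G : C} (f : F ⟶ G) :
    rad k P F hP ≤ (rad k P G hP).comap (Linear.rightComp k P f) := fun h hh g => by
  show ¬ IsIso ((h ≫ f) ≫ g)
  rw [Category.assoc]
  exact hh _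

/-- Functoriality of the top, linear in the morphism. -/
def topMap (F G : C) : (F ⟶ G) →ₗ[k] Top k hP F →ₗ[k] Top k hP G where
  toFun f := Submodule.mapQ _ _ (Linear.rightComp k P f) (rad_le_comap k hP f)
  map_add' f g := by
    apply Submodule.linearMap_qext
    ext h
    exact congrArg Submodule.Quotient.mk (Preadditive.comp_add _ _ _ h f g)
  map_smul' c f := by
    apply Submodule.linearMap_qext
    ext h
    exact congrArg Submodule.Quotient.mk (Linear.comp_smul _ _ _ h c f)

theorem topMap_mk {F G : C} (f : F ⟶ G) (h : P ⟶ F) :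
    topMap k hP F G f (Submodule.Quotient.mk h) = Submodule.Quotient.mk (h ≫ f) := rfl

theorem topMap_comp {F G H : C} (f : F ⟶ G) (g : G ⟶ H) (x : Top k hP F) :
    topMap k hP G H g (topMap k hP F G f x) = topMap k hP F H (f ≫ g) x :=
  Submodule.Quotient.induction_on _ x fun h => by
    rw [topMap_mk, topMap_mk, topMap_mk, Category.assoc]

theorem topMap_id {F : C} (x : Top k hP F) : topMap k hP F F (𝟙 F) x = x :=
  Submodule.Quotient.induction_on _ x fun h => by rw [topMap_mk, Category.comp_id]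

/-- Isomorphic objects have isomorphic tops. -/
def topCongr {F G : C} (e : F ≅ G) : Top k hP F ≃ₗ[k] Top k hP G :=
  LinearEquiv.ofLinearMap (topMap k hP F G e.hom) (topMap k hP G F e.inv)
    (LinearMap.ext fun x => by
      show topMap k hP F G e.hom (topMap k hP G F e.inv x) = x
      rw [topMap_comp, e.inv_hom_id, topMap_id])
    (LinearMap.ext fun x => by
      show topMap k hP G F e.inv (topMap k hP F G e.hom x) = x
      rw [topMap_comp, e.hom_inv_id, topMap_id])

/-- The top is additive. -/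
def topEquiv {n : Type*} [Fintype n] [DecidableEq n] {F : C} {Fs : n → C} (d : Dec F Fs) :
    Top k hP F ≃ₗ[k] ∀ i, Top k hP (Fs i) :=
  LinearEquiv.ofLinearMap (LinearMap.pi fun i => topMap k hP F (Fs i) (d.π i))
    (∑ i, (topMap k hP (Fs i) F (d.ι i)).comp (LinearMap.proj i))
    (LinearMap.ext fun x => funext fun j => by
      show topMap k hP F (Fs j) (d.π j)
        ((∑ i, (topMap k hP (Fs i) F (d.ι i)).comp (LinearMap.proj i)) x) = x j
      rw [LinearMap.sum_apply, map_sum, Finset.sum_eq_single j]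
      · show topMap k hP F (Fs j) (d.π j) (topMap k hP (Fs j) F (d.ι j) (x j)) = x j
        rw [topMap_comp, d.ι_π j, topMap_id]
      · intro i _ hi
        show topMap k hP F (Fs j) (d.π j) (topMap k hP (Fs i) F (d.ι i) (x i)) = 0
        rw [topMap_comp, d.ι_π_ne i j hi, map_zero, LinearMap.zero_apply]
      · intro h; exact absurd (Finset.mem_univ j) h)
    (LinearMap.ext fun x => by
      show (∑ i, (topMap k hP (Fs i) F (d.ι i)).comp (LinearMap.proj i))
        (fun i => topMap k hP F (Fs i) (d.π i) x) = x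
      rw [LinearMap.sum_apply]
      show (∑ i, topMap k hP (Fs i) F (d.ι i) (topMap k hP F (Fs i) (d.π i) x)) = x
      rw [Finset.sum_congr rfl fun i _ => topMap_comp k hP (d.π i) (d.ι i) x,
        ← LinearMap.sum_apply, ← map_sum, d.total, topMap_id])

/-- The top at another indecomposable vanishes. -/
theorem finrank_top_of_not_iso {Q : C} (hQ : Indec Q) (h : ¬ Nonempty (P ≅ Q)) :
    Module.finrank k (Top k hP Q) = 0 := by
  have htop : rad k P Q hP = ⊤ := by
    rw [eq_top_iff]
    intro f _ g hu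
    have : IsIso (f ≫ g) := hu
    have h1 : f ≫ g ≫ inv (f ≫ g) = 𝟙 P := by rw [← Category.assoc, IsIso.hom_inv_id]
    rcases hQ.idem (g ≫ inv (f ≫ g) ≫ f) (by simp [reassoc_of% h1]) with h0 | h0
    · have : f = 0 := by
        have h2 := congrArg (f ≫ ·) h0
        simpa [reassoc_of% h1] using h2
      exact hP.id_ne_zero (h1.symm.trans ((congrArg (· ≫ g ≫ inv (f ≫ g)) this).trans zero_comp))
    · exact h ⟨⟨f, g ≫ inv (f ≫ g), h1, by rw [Category.assoc]; exact h0⟩⟩
  have : Subsingleton (Top k hP Q) := Submodule.Quotient.subsingleton_iff.2 htop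
  exact Module.finrank_zero_of_subsingleton

/-- The top at the indecomposable itself does not vanish. -/
theorem finrank_top_self_pos : 0 < Module.finrank k (Top k hP P) := by
  rw [Module.finrank_pos_iff_exists_ne_zero]
  refine ⟨Submodule.Quotient.mk (𝟙 P), fun h => ?_⟩
  rw [Submodule.Quotient.mk_eq_zero] at h
  exact h (𝟙 P) (by rw [Category.comp_id]; infer_instance)

open Classical in
theorem finrank_top_eq_count {n : Type*} [Fintype n] [DecidableEq n] {F : C} {Fs : n → C}
    [∀ i, Module.Finite k (P ⟶ Fs i)] (d : Dec F Fs) (hFs : ∀ i, Indec (Fs i)) :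
    Module.finrank k (Top k hP F) =
      (Finset.univ.filter fun i => Nonempty (P ≅ Fs i)).card * Module.finrank k (Top k hP P) := by
  rw [(topEquiv k hP d).finrank_eq, Module.finrank_pi_fintype, Finset.card_eq_sum_ones, Finset.sum_mul,
    Finset.sum_filter]
  refine Finset.sum_congr rfl fun i _ => ?_
  split
  · rename_i h
    rw [one_mul, (topCongr k hP h.some).finrank_eq]
  · rename_i h
    exact finrank_top_of_not_iso k hP (hFs i) h

end Linear

end Groth.Agent.ASBunK
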