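import Groth.Agent.ASBunK.KS
import Mathlib.Logic.Equiv.Basic

/-!
# Existence and uniqueness of decompositions into indecomposables
-/

set_option autoImplicit false

universe w v u

open CategoryTheory CategoryTheory.Limits

namespace Groth.Agent.ASBunK

variable {C : Type u} [Category.{v} C] [Abelian C]

theorem indec_or_decomp (F : C) :
    IsZero F ∨ Indec F ∨ ∃ A B : C, ¬ IsZero A ∧ ¬ IsZero B ∧ Nonempty (F ≅ A ⊞ B) := by
  by_cases h0 : IsZero F
  · exact Or.inl h0
  refine Or.inr ?_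
  by_cases h : ∀ A B : C, Nonempty (F ≅ A ⊞ B) → IsZero A ∨ IsZero B
  · exact Or.inl ⟨h0, h⟩
  · push Not at h
    obtain ⟨A, B, he, hA, hB⟩ := h
    exact Or.inr ⟨A, B, hA, hB, he⟩

/-- An isomorphism with a coproduct gives a decomposition. -/
noncomputable def decOfIso {n : Type*} [Fintype n] [DecidableEq n] {F : C} {Fs : n → C}
    [HasCoproduct Fs] (e : F ≅ ∐ Fs) : Dec F Fs :=
  Dec.coprod.ofIso e.symm

theorem isRetr_biprod_fst {F A B : C} (e : F ≅ A ⊞ B) : IsRetr A F :=
  ⟨biprod.inl ≫ e.inv, e.hom ≫ biprod.fst, by simp⟩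

theorem isRetr_biprod_snd {F A B : C} (e : F ≅ A ⊞ B) : IsRetr B F :=
  ⟨biprod.inr ≫ e.inv, e.hom ≫ biprod.snd, by simp⟩

omit [Abelian C] in
theorem IsRetr.trans {A B F : C} (h : IsRetr A B) (h' : IsRetr B F) : IsRetr A F := by
  obtain ⟨i, p, hip⟩ := h
  obtain ⟨j, q, hjq⟩ := h'
  exact ⟨i ≫ j, q ≫ p, by simp [reassoc_of% hjq, hip]⟩

variable (k : Type w) [Field k] [Linear k C]

/-- An object with finite-dimensional endomorphisms is a finite sum of indecomposable objects. -/
theorem exists_dec (F : C) [Module.Finite k (F ⟶ F)] :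
    ∃ (n : ℕ) (Fs : Fin n → C), (∀ i, Indec (Fs i)) ∧ Nonempty (Dec F Fs) := by
  suffices H : ∀ (d : ℕ) (F : C), Module.Finite k (F ⟶ F) → Module.finrank k (F ⟶ F) ≤ d →
      ∃ (n : ℕ) (Fs : Fin n → C), (∀ i, Indec (Fs i)) ∧ Nonempty (Dec F Fs) from
    H _ F inferInstance le_rfl
  intro d
  induction d using Nat.strong_induction_on with
  | _ d ih =>
    intro F hfin hd
    rcases indec_or_decomp F with h0 | hi | ⟨A, B, hA, hB, ⟨e⟩⟩
    · exact ⟨0, Fin.elim0, fun i => i.elim0,
        ⟨⟨fun i => i.elim0, fun i => i.elim0, fun i => i.elim0, fun i => i.elim0,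
          h0.eq_of_src _ _⟩⟩⟩
    · exact ⟨1, fun _ => F, fun _ => hi,
        ⟨⟨fun _ => 𝟙 F, fun _ => 𝟙 F, fun _ => Category.id_comp _,
          fun i j h => absurd (Subsingleton.elim i j) h, by simp⟩⟩⟩
    · have := finite_hom_of_retr k (isRetr_biprod_fst e) (isRetr_biprod_fst e)
      have := finite_hom_of_retr k (isRetr_biprod_snd e) (isRetr_biprod_snd e)
      let φ : ((A ⟶ A) × (B ⟶ B)) →ₗ[k] (F ⟶ F) :=
        ((Linear.rightComp k F (biprod.inl ≫ e.inv)).comp
            (Linear.leftComp k A (e.hom ≫ biprod.fst))).coprod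
          ((Linear.rightComp k F (biprod.inr ≫ e.inv)).comp
            (Linear.leftComp k B (e.hom ≫ biprod.snd)))
      have hφ : Function.Injective φ := by
        rintro ⟨a, b⟩ ⟨a', b'⟩ hab
        have h1 := congrArg (fun t => (biprod.inl ≫ e.inv) ≫ t ≫ e.hom ≫ biprod.fst) hab
        have h2 := congrArg (fun t => (biprod.inr ≫ e.inv) ≫ t ≫ e.hom ≫ biprod.snd) hab
        simp [φ, Linear.leftComp, Linear.rightComp] at h1 h2
        exact Prod.ext h1 h2
      have hpos : ∀ {X : C} [Module.Finite k (X ⟶ X)], ¬ IsZero X → 0 < Module.finrank k (X ⟶ X) := by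
        intro X _ hX
        exact Module.finrank_pos_iff_exists_ne_zero.2
          ⟨𝟙 X, fun h => hX ((IsZero.iff_id_eq_zero X).2 h)⟩
      have hle := LinearMap.finrank_le_finrank_of_injective hφ
      rw [Module.finrank_prod] at hle
      have := hpos hA
      have := hpos hB
      obtain ⟨n, Fs, hFs, ⟨dA⟩⟩ := ih (d - 1) (by omega) A inferInstance (by omega)
      obtain ⟨m, Gs, hGs, ⟨dB⟩⟩ := ih (d - 1) (by omega) B inferInstance (by omega)
      refine ⟨n + m, fun i => Sum.elim Fs Gs (finSumFinEquiv.symm i), fun i => ?_,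
        ⟨((dA.sum dB).ofIso e.symm).reindex finSumFinEquiv.symm⟩⟩
      show Indec (Sum.elim Fs Gs (finSumFinEquiv.symm i))
      rcases finSumFinEquiv.symm i with j | j
      · exact hFs j
      · exact hGs j

/-- Two decomposed objects with equal multiplicities have matching summands. -/
theorem exists_equiv_of_finrank_top_eq {F G : C} [Module.Finite k (F ⟶ F)] [Module.Finite k (G ⟶ G)]
    [Module.Finite k (F ⟶ G)] [Module.Finite k (G ⟶ F)]
    {n m : Type*} [Fintype n] [DecidableEq n] [Fintype m] [DecidableEq m] {Fs : n → C} {Gs : m → C}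
    (dF : Dec F Fs) (dG : Dec G Gs) (hFs : ∀ i, Indec (Fs i)) (hGs : ∀ i, Indec (Gs i))
    (h : ∀ (P : C) (hP : Indec P) (_ : Module.Finite k (P ⟶ P)), IsRetr P F ∨ IsRetr P G →
      Module.finrank k (Top k hP F) = Module.finrank k (Top k hP G)) :
    ∃ e : n ≃ m, ∀ i, Nonempty (Fs i ≅ Gs (e i)) := by
  classical
  let := isIsomorphicSetoid C
  let cF : n → Quotient (isIsomorphicSetoid C) := fun i => ⟦Fs i⟧
  let cG : m → Quotient (isIsomorphicSetoid C) := fun i => ⟦Gs i⟧
  have hcard : ∀ c, Fintype.card {i // cF i = c} = Fintype.card {i // cG i = c} := by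
    intro c
    induction c using Quotient.inductionOn with
    | _ P =>
      have e1 : ∀ i, cF i = ⟦P⟧ ↔ Nonempty (P ≅ Fs i) := fun i =>
        Quotient.eq.trans ⟨fun ⟨e⟩ => ⟨e.symm⟩, fun ⟨e⟩ => ⟨e.symm⟩⟩
      have e2 : ∀ i, cG i = ⟦P⟧ ↔ Nonempty (P ≅ Gs i) := fun i =>
        Quotient.eq.trans ⟨fun ⟨e⟩ => ⟨e.symm⟩, fun ⟨e⟩ => ⟨e.symm⟩⟩
      rw [Fintype.card_subtype, Fintype.card_subtype, Finset.filter_congr fun i _ => e1 i,
        Finset.filter_congr fun i _ => e2 i]
      by_cases hex : (∃ i, Nonempty (P ≅ Fs i)) ∨ ∃ i, Nonempty (P ≅ Gs i)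
      · have hP : Indec P ∧ (IsRetr P F ∨ IsRetr P G) := by
          rcases hex with ⟨i, ⟨e⟩⟩ | ⟨i, ⟨e⟩⟩
          · exact ⟨(hFs i).congr e.symm,
              Or.inl (IsRetr.trans ⟨e.hom, e.inv, e.hom_inv_id⟩ (dF.isRetr i))⟩
          · exact ⟨(hGs i).congr e.symm,
              Or.inr (IsRetr.trans ⟨e.hom, e.inv, e.hom_inv_id⟩ (dG.isRetr i))⟩
        obtain ⟨hP, hr⟩ := hP
        have hPF : Module.Finite k (P ⟶ F) := by
          rcases hr with hr | hr
          · exact finite_hom_of_retr k hr (IsRetr.refl F)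
          · exact finite_hom_of_retr k hr (IsRetr.refl F)
        have hPG : Module.Finite k (P ⟶ G) := by
          rcases hr with hr | hr
          · exact finite_hom_of_retr k hr (IsRetr.refl G)
          · exact finite_hom_of_retr k hr (IsRetr.refl G)
        have hPP : Module.Finite k (P ⟶ P) := by
          rcases hr with hr | hr
          · exact finite_hom_of_retr k hr hr
          · exact finite_hom_of_retr k hr hr
        have : ∀ i, Module.Finite k (P ⟶ Fs i) := fun i =>
          finite_hom_of_retr k (IsRetr.refl P) (dF.isRetr i)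
        have : ∀ i, Module.Finite k (P ⟶ Gs i) := fun i =>
          finite_hom_of_retr k (IsRetr.refl P) (dG.isRetr i)
        have hh := h P hP hPP hr
        rw [finrank_top_eq_count k hP dF hFs, finrank_top_eq_count k hP dG hGs] at hh
        exact Nat.eq_of_mul_eq_mul_right (finrank_top_self_pos k hP) hh
      · push Not at hex
        rw [Finset.filter_false_of_mem fun i _ hi => (hex.1 i).false hi.some,
          Finset.filter_false_of_mem fun i _ hi => (hex.2 i).false hi.some]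
        rfl
  refine ⟨Equiv.ofFiberEquiv fun c => Fintype.equivOfCardEq (hcard c), fun i => ?_⟩
  have := Equiv.ofFiberEquiv_map (fun c => Fintype.equivOfCardEq (hcard c)) i
  obtain ⟨e⟩ := Quotient.eq.1 this
  exact ⟨e.symm⟩

/-- Two objects with equal multiplicities are isomorphic. -/
theorem nonempty_iso_of_finrank_top_eq (F G : C) [Module.Finite k (F ⟶ F)] [Module.Finite k (G ⟶ G)]
    [Module.Finite k (F ⟶ G)] [Module.Finite k (G ⟶ F)]
    (h : ∀ (P : C) (hP : Indec P) (_ : Module.Finite k (P ⟶ P)), IsRetr P F ∨ IsRetr P G →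
      Module.finrank k (Top k hP F) = Module.finrank k (Top k hP G)) :
    Nonempty (F ≅ G) := by
  classical
  obtain ⟨n, Fs, hFs, ⟨dF⟩⟩ := exists_dec k F
  obtain ⟨m, Gs, hGs, ⟨dG⟩⟩ := exists_dec k G
  obtain ⟨e, he⟩ := exists_equiv_of_finrank_top_eq k dF dG hFs hGs h
  have := Abelian.hasFiniteBiproducts (C := C)
  exact ⟨(dF.mapIso fun i => (he i).some).iso ≪≫ ((dG.reindex e).iso).symm⟩

/-- Krull–Schmidt uniqueness. -/
theorem exists_equiv_of_dec {F : C} [Module.Finite k (F ⟶ F)]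
    {n m : Type*} [Fintype n] [DecidableEq n] [Fintype m] [DecidableEq m] {Fs : n → C} {Gs : m → C}
    (dF : Dec F Fs) (dG : Dec F Gs) (hFs : ∀ i, Indec (Fs i)) (hGs : ∀ i, Indec (Gs i)) :
    ∃ e : n ≃ m, ∀ i, Nonempty (Fs i ≅ Gs (e i)) :=
  exists_equiv_of_finrank_top_eq k dF dG hFs hGs fun _ _ _ _ => rfl

end Groth.Agent.ASBunK
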