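import Groth.Agent.ASBunK.HomBC
import Groth.Agent.ASBunK.HomFinite
import Groth.Agent.ASBunK.DecFun
import Groth.Agent.QCoh.LocFree
import Groth.Agent.QCoh.Support
import Groth.Agent.ZClosLib.CohDescent
import Groth.Agent.Lib.CurveDeg
import Groth.Agent.SheafHomX.Coherent
import Groth.Prelude.Def_W4c1astiltbs12AS

/-!
# Coherent modules on a proper scheme over a field: decompositions and descent
-/

set_option autoImplicit false
set_option backward.isDefEq.respectTransparency false
set_option backward.isDefEq.respectTransparency.types false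
set_option linter.style.haveILetI false
set_option linter.unusedSectionVars false

universe u

open CategoryTheory CategoryTheory.Limits AlgebraicGeometry TopologicalSpace Opposite
open W4c1astiltbs12

namespace Groth.Agent.ASBunK

section Retr

variable {X : Scheme.{u}} {A F : X.Modules}

theorem stalkMap_comp {G : X.Modules} (f : A ⟶ F) (g : F ⟶ G) (x : X) :
    RefHull.stalkMapₗ (f ≫ g) x = (RefHull.stalkMapₗ g x).comp (RefHull.stalkMapₗ f x) := by
  refine LinearMap.ext fun v => ?_
  obtain ⟨U, hx, m, rfl⟩ := TopCat.Presheaf.exists_germ_eq A.presheaf v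
  rw [LinearMap.comp_apply, RefHull.stalkMapₗ_germ, RefHull.stalkMapₗ_germ, RefHull.stalkMapₗ_germ]
  rfl

theorem stalkMap_id (x : X) : RefHull.stalkMapₗ (𝟙 A) x = LinearMap.id := by
  refine LinearMap.ext fun v => ?_
  obtain ⟨U, hx, m, rfl⟩ := TopCat.Presheaf.exists_germ_eq A.presheaf v
  rw [RefHull.stalkMapₗ_germ]
  rfl

theorem isCoh_of_isRetr (h : IsRetr A F) (hF : Coh.IsCoh F) : Coh.IsCoh A := by
  obtain ⟨i, p, hip⟩ := h
  have hc : (𝟙 F - p ≫ i) ≫ p = 0 := by simp [hip]
  let e : cokernel (𝟙 F - p ≫ i) ≅ A :=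
    { hom := cokernel.desc _ p hc
      inv := i ≫ cokernel.π _
      hom_inv_id := by
        refine coequalizer.hom_ext ?_
        have h0 := cokernel.condition (𝟙 F - p ≫ i)
        rw [Preadditive.sub_comp, Category.id_comp, sub_eq_zero, Category.assoc] at h0
        rw [Category.comp_id, cokernel.π_desc_assoc]
        exact h0.symm
      inv_hom_id := by rw [Category.assoc, cokernel.π_desc, hip] }
  exact SheafHomX.isCoh_of_iso e (QCoh.isCoh_cokernel hF.1 hF _)

theorem isFinLocFree_of_isRetr [IsLocallyNoetherian X] (h : IsRetr A F) (hF : FlatMod.IsFinLocFree F) :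
    FlatMod.IsFinLocFree A := by
  have hFc := Groth.Agent.CurveDeg.isCoh_of_isFinLocFree hF
  have hA := isCoh_of_isRetr h hFc
  refine QCoh.isFinLocFree_iff.2 ⟨QCoh.isCoh_iff_isFP.1 hA, fun x => ?_⟩
  obtain ⟨i, p, hip⟩ := h
  haveI := (QCoh.isFinLocFree_iff.1 hF).2 x
  haveI := QCoh.finite_stalk_of_isFT hA.1 hA.2 x
  haveI : Module.Projective (X.presheaf.stalk x) (A.presheaf.stalk x) :=
    Module.Projective.of_split (RefHull.stalkMapₗ i x) (RefHull.stalkMapₗ p x)
      (by rw [← stalkMap_comp, hip, stalkMap_id])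
  exact Module.free_of_flat_of_isLocalRing

end Retr

variable (k : Type u) [Field k] {X : Scheme.{u}} [X.Over (Spec (CommRingCat.of k))]

/-- Coherent modules isomorphic after a field extension are isomorphic. -/
theorem nonempty_iso_of_pullback_iso [IsProper (X ↘ Spec (CommRingCat.of k))] (K : Type u) [CommRing K]
    [Nontrivial K] [Algebra k K] {X' : Scheme.{u}} [X'.Over (Spec (CommRingCat.of K))] (g : X' ⟶ X)
    (hpb : IsPullback g (X' ↘ Spec (CommRingCat.of K)) (X ↘ Spec (CommRingCat.of k))
      (Spec.map (CommRingCat.ofHom (algebraMap k K))))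
    {F G : X.Modules} (hF : Coh.IsCoh F) (hG : Coh.IsCoh G)
    (e : (Scheme.Modules.pullback g).obj F ≅ (Scheme.Modules.pullback g).obj G) : Nonempty (F ≅ G) := by
  haveI : CompactSpace X := QuasiCompact.compactSpace_of_compactSpace (X ↘ Spec (CommRingCat.of k))
  haveI := finite_hom k hF hF
  haveI := finite_hom k hG hG
  haveI := finite_hom k hF hG
  haveI := finite_hom k hG hF
  obtain ⟨a, ha⟩ := θ_surjective k K g hpb hF hG.1 e.hom
  obtain ⟨b, hb⟩ := θ_surjective k K g hpb hG hF.1 e.inv
  refine nonempty_iso_of_tensor k K a b (θ_injective k K g hpb hF.1 ?_) (θ_injective k K g hpb hG.1 ?_)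
  · rw [θ_tcomp, ha, hb, e.hom_inv_id, θ_one, CategoryTheory.Functor.map_id]
  · rw [θ_tcomp, ha, hb, e.inv_hom_id, θ_one, CategoryTheory.Functor.map_id]

omit [X.Over (Spec (CommRingCat.of k))]

/-- The same, in the notation of base change along a structure morphism. -/
theorem nonempty_iso_of_bcMod_iso (p : X ⟶ Spec (CommRingCat.of k)) [IsProper p] (K : Type u)
    [Field K] [Algebra k K] {F G : X.Modules} (hF : Coh.IsCoh F) (hG : Coh.IsCoh G)
    (e : bcMod p K F ≅ bcMod p K G) : Nonempty (F ≅ G) := by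
  letI : X.Over (Spec (CommRingCat.of k)) := ⟨p⟩
  letI : (W4bk4gw11416.baseChange p K).Over (Spec (CommRingCat.of K)) :=
    ⟨W4bk4gw11416.baseChangeTo p K⟩
  haveI : IsProper (X ↘ Spec (CommRingCat.of k)) := ‹IsProper p›
  exact nonempty_iso_of_pullback_iso k K (proj p K)
    (IsPullback.of_hasPullback p (Spec.map (CommRingCat.ofHom (algebraMap k K)))) hF hG e

variable (p : X ⟶ Spec (CommRingCat.of k)) [IsProper p]

include p in
theorem isLocallyNoetherian_of_proper : IsLocallyNoetherian X :=
  LocallyOfFiniteType.isLocallyNoetherian p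

include k p in
/-- A coherent module is a finite sum of indecomposable ones. -/
theorem exists_dec_of_isCoh {F : X.Modules} (hF : Coh.IsCoh F) :
    ∃ (n : ℕ) (Fs : Fin n → X.Modules), (∀ i, Indec (Fs i)) ∧ Nonempty (Dec F Fs) := by
  letI : X.Over (Spec (CommRingCat.of k)) := ⟨p⟩
  haveI : IsProper (X ↘ Spec (CommRingCat.of k)) := ‹IsProper p›
  haveI := finite_hom k hF hF
  exact exists_dec k F

include p in
/-- Uniqueness of the decomposition of a coherent module. -/
theorem exists_equiv_of_dec_isCoh {F : X.Modules} (hF : Coh.IsCoh F) {n m : Type*} [Fintype n]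
    [DecidableEq n] [Fintype m] [DecidableEq m] {Fs : n → X.Modules} {Gs : m → X.Modules}
    (dF : Dec F Fs) (dG : Dec F Gs) (hFs : ∀ i, Indec (Fs i)) (hGs : ∀ i, Indec (Gs i)) :
    ∃ e : n ≃ m, ∀ i, Nonempty (Fs i ≅ Gs (e i)) := by
  letI : X.Over (Spec (CommRingCat.of k)) := ⟨p⟩
  haveI : IsProper (X ↘ Spec (CommRingCat.of k)) := ‹IsProper p›
  haveI := finite_hom k hF hF
  exact exists_equiv_of_dec k dF dG hFs hGs

include p in
/-- An indecomposable summand of a coherent sum of copies of an indecomposable is that indecomposable. -/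
theorem iso_of_dec_const {F W : X.Modules} (hF : Coh.IsCoh F) {n m : Type*} [Fintype n]
    [DecidableEq n] [Fintype m] [DecidableEq m] {Fs : n → X.Modules} (dF : Dec F Fs)
    (dW : Dec F (fun _ : m => W)) (hFs : ∀ i, Indec (Fs i)) (hW : Indec W) (i : n) :
    Nonempty (Fs i ≅ W) :=
  let ⟨e, he⟩ := exists_equiv_of_dec_isCoh k p hF dF dW hFs fun _ => hW
  ⟨(he i).some⟩

end Groth.Agent.ASBunK
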