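import Groth.Agent.ASBunK.Isotypic
import Groth.Agent.H23.EndInv
import Groth.Agent.Lib.CurveEnd
import Mathlib.RingTheory.SimpleRing.Basic
import Mathlib.RingTheory.TwoSidedIdeal.Operations
import Mathlib.AlgebraicGeometry.Geometrically.Integral

/-!
# Endomorphisms of isotypic modules of invertible type
-/

set_option autoImplicit false
set_option backward.isDefEq.respectTransparency false
set_option backward.isDefEq.respectTransparency.types false
set_option linter.style.haveILetI false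
set_option linter.unusedSectionVars false

universe u

open CategoryTheory CategoryTheory.Limits AlgebraicGeometry TopologicalSpace Opposite
open scoped TensorProduct
open W4c1astiltbs12

namespace Groth.Agent.ASBunK

/-- On an integral proper scheme over an algebraically closed field an invertible module has only
scalar endomorphisms. -/
theorem exists_smul_id_of_invertible (K : Type u) [Field K] [IsAlgClosed K] {Y : Scheme.{u}}
    [Y.Over (Spec (CommRingCat.of K))] [IsIntegral Y] [IsProper (Y ↘ Spec (CommRingCat.of K))]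
    {L : Y.Modules} (hL : PicF.IsInvertible L) (φ : L ⟶ L) : ∃ c : K, φ = c • 𝟙 L := by
  obtain ⟨s, hs⟩ := H23.EndInv.exists_coeff hL φ
  obtain ⟨c, hc⟩ := (CurveEnd.toGlobal_bijective (X := Y) (k := K)).2 s
  refine ⟨c, Scheme.Modules.hom_ext _ _ fun W => ?_⟩
  ext l
  rw [KLin.smul_app_apply, hc, hs]
  rfl

section

variable (k : Type u) [Field k] {X : Scheme.{u}} [X.Over (Spec (CommRingCat.of k))]
  (K : Type u) [Field K] [Algebra k K] {X' : Scheme.{u}} [X'.Over (Spec (CommRingCat.of K))]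
  (g : X' ⟶ X) (hpb : IsPullback g (X' ↘ Spec (CommRingCat.of K)) (X ↘ Spec (CommRingCat.of k))
    (Spec.map (CommRingCat.ofHom (algebraMap k K))))

include hpb

/-- If `E` becomes a sum of copies of a module with scalar endomorphisms, `End E` is simple. -/
theorem isSimpleRing_end_of_schur [CompactSpace X] {E : X.Modules} (hE : Coh.IsCoh E)
    (hE0 : ¬ IsZero E) {L : X'.Modules} {n : Type*} [Fintype n] [DecidableEq n]
    (d : Dec ((Scheme.Modules.pullback g).obj E) (fun _ : n => L))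
    (hL : ∀ φ : L ⟶ L, ∃ c : K, φ = c • 𝟙 L) : IsSimpleRing (CategoryTheory.End E) := by
  classical
  have hne : (𝟙 E : CategoryTheory.End E) ≠ 0 := fun h => hE0 ((IsZero.iff_id_eq_zero E).2 h)
  haveI : Nontrivial (CategoryTheory.End E) := ⟨⟨_, _, hne⟩⟩
  refine IsSimpleRing.of_eq_bot_or_eq_top fun I => ?_
  by_contra hI
  push Not at hI
  obtain ⟨x, hxI, hx0⟩ : ∃ x, x ∈ I ∧ x ≠ 0 := by
    by_contra h
    push Not at h
    refine hI.1 (le_antisymm (fun y hy => ?_) bot_le)
    rw [TwoSidedIdeal.mem_bot]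
    exact h y hy
  refine hI.2 (I.one_mem_iff.1 ?_)
  let S : Submodule k (E ⟶ E) :=
    { carrier := {f | (f : CategoryTheory.End E) ∈ I}
      zero_mem' := I.zero_mem
      add_mem' := fun ha hb => I.add_mem ha hb
      smul_mem' := fun a f hf => by
        show (a • f : E ⟶ E) ∈ {f : E ⟶ E | (f : CategoryTheory.End E) ∈ I}
        rw [show a • f = (a • 𝟙 E) ≫ f by rw [Linear.smul_comp, Category.id_comp]]
        exact I.mul_mem_right _ _ hf }
  let J : Submodule K (K ⊗[k] (E ⟶ E)) := LinearMap.range (S.subtype.baseChange K)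
  have hJl : ∀ (a : K ⊗[k] (E ⟶ E)), ∀ z ∈ J, tcomp k K E E E a z ∈ J ∧ tcomp k K E E E z a ∈ J := by
    rintro a _ ⟨w, rfl⟩
    induction w using TensorProduct.induction_on with
    | zero => simp
    | add w w' hw hw' =>
      simp only [map_add, LinearMap.add_apply]
      exact ⟨J.add_mem hw.1 hw'.1, J.add_mem hw.2 hw'.2⟩
    | tmul c f =>
      induction a using TensorProduct.induction_on with
      | zero => simp
      | add a a' ha ha' =>
        simp only [map_add, LinearMap.add_apply]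
        exact ⟨J.add_mem ha.1 ha'.1, J.add_mem ha.2 ha'.2⟩
      | tmul b h =>
        rw [LinearMap.baseChange_tmul, tcomp_tmul, tcomp_tmul]
        exact ⟨⟨(b * c) ⊗ₜ ⟨h ≫ f.1, I.mul_mem_right _ _ f.2⟩, rfl⟩,
          ⟨(c * b) ⊗ₜ ⟨f.1 ≫ h, I.mul_mem_left _ _ f.2⟩, rfl⟩⟩
  obtain ⟨l, hl⟩ : ∃ l : K →ₗ[k] k, l 1 = 1 := by
    obtain ⟨l, hl⟩ := (Algebra.linearMap k K).exists_leftInverse_of_injective
      (LinearMap.ker_eq_bot.2 (algebraMap k K).injective)
    exact ⟨l, by simpa using LinearMap.congr_fun hl 1⟩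
  have hco : ∀ z ∈ J, (co l (E ⟶ E) z : CategoryTheory.End E) ∈ I := by
    rintro _ ⟨w, rfl⟩
    rw [co_nat]
    exact (co l S w).2
  suffices h1 : (1 : K) ⊗ₜ[k] (𝟙 E) ∈ J by
    have := hco _ h1
    rw [co_tmul, hl, one_smul] at this
    exact this
  set φ := θ k K g hpb E E ((1 : K) ⊗ₜ (x : E ⟶ E))
  have hφ : φ ≠ 0 := by
    intro h
    refine hx0 ?_
    have h2 := θ_injective k K g hpb hE.1 (h.trans (map_zero (θ k K g hpb E E)).symm)
    have h3 := congrArg (co l (E ⟶ E)) h2
    rwa [co_tmul, hl, one_smul, map_zero] at h3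
  obtain ⟨a, b, hab⟩ : ∃ a b, d.ι a ≫ φ ≫ d.π b ≠ 0 := by
    by_contra h
    push Not at h
    refine hφ ?_
    calc φ = (∑ a, d.π a ≫ d.ι a) ≫ φ ≫ ∑ b, d.π b ≫ d.ι b := by
          rw [d.total, Category.id_comp, Category.comp_id]
      _ = 0 := by
          rw [Preadditive.sum_comp]
          refine Finset.sum_eq_zero fun a _ => ?_
          rw [Preadditive.comp_sum, Preadditive.comp_sum]
          refine Finset.sum_eq_zero fun b _ => ?_
          rw [show (d.π a ≫ d.ι a) ≫ φ ≫ d.π b ≫ d.ι b = d.π a ≫ (d.ι a ≫ φ ≫ d.π b) ≫ d.ι b by simp,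
            h a b, zero_comp, comp_zero]
  obtain ⟨c, hc⟩ := hL (d.ι a ≫ φ ≫ d.π b)
  have hc0 : c ≠ 0 := fun h => hab (by rw [hc, h, zero_smul])
  have hzJ : (1 : K) ⊗ₜ[k] (x : E ⟶ E) ∈ J := ⟨(1 : K) ⊗ₜ ⟨x, hxI⟩, rfl⟩
  have he : ∀ i, ∃ e ∈ J, θ k K g hpb E E e = c • (d.π i ≫ d.ι i) := by
    intro i
    obtain ⟨A, hA⟩ := θ_surjective k K g hpb hE hE.1 (d.π i ≫ d.ι a)
    obtain ⟨B, hB⟩ := θ_surjective k K g hpb hE hE.1 (d.π b ≫ d.ι i)
    refine ⟨tcomp k K E E E (tcomp k K E E E A ((1 : K) ⊗ₜ (x : E ⟶ E))) B,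
      (hJl B _ (hJl A _ hzJ).1).2, ?_⟩
    rw [θ_tcomp, θ_tcomp, hA, hB]
    show ((d.π i ≫ d.ι a) ≫ φ) ≫ d.π b ≫ d.ι i = _
    rw [show ((d.π i ≫ d.ι a) ≫ φ) ≫ d.π b ≫ d.ι i = d.π i ≫ (d.ι a ≫ φ ≫ d.π b) ≫ d.ι i by simp, hc,
      Linear.smul_comp, Category.id_comp, Linear.comp_smul]
  choose e heJ he using he
  have hsum : c • ((1 : K) ⊗ₜ[k] (𝟙 E)) = ∑ i, e i := by
    refine θ_injective k K g hpb hE.1 ?_
    rw [map_smul, θ_one, CategoryTheory.Functor.map_id, map_sum, Finset.sum_congr rfl fun i _ => he i,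
      ← Finset.smul_sum, d.total]
  have := J.smul_mem c⁻¹ (hsum ▸ J.sum_mem fun i _ => heJ i : c • ((1 : K) ⊗ₜ[k] (𝟙 E)) ∈ J)
  rwa [smul_smul, inv_mul_cancel₀ hc0, one_smul] at this

end

/-- An indecomposable object with simple endomorphism ring has no nonzero non-invertible endomorphism. -/
theorem isIso_of_simple {C : Type*} [Category C] [Abelian C] (k : Type*) [Field k] [Linear k C] {F : C}
    [Module.Finite k (F ⟶ F)] (h : Indec F) [IsSimpleRing (CategoryTheory.End F)] (f : F ⟶ F)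
    (hf : f ≠ 0) : IsIso f := by
  by_contra hni
  have hnu : ∀ x y : CategoryTheory.End F, ¬ IsUnit y → ¬ IsUnit (x * y) ∧ ¬ IsUnit (y * x) := by
    intro x y hy
    obtain ⟨m, hm⟩ := (h.isUnit_or_isNilpotent k y).resolve_left hy
    have h1 : (1 : CategoryTheory.End F) ≠ 0 := fun h' => h.id_ne_zero h'
    refine ⟨fun hu => ?_, fun hu => ?_⟩
    · obtain ⟨u, hu⟩ := hu
      have hs : (↑u⁻¹ * x) * y = 1 := by rw [mul_assoc, ← hu, Units.inv_mul]
      have : ∀ j, (↑u⁻¹ * x) ^ j * y ^ j = 1 := fun j => by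
        induction j with
        | zero => simp
        | succ j ih =>
          rw [pow_succ, pow_succ', mul_assoc, ← mul_assoc (↑u⁻¹ * x) y, hs, one_mul, ih]
      exact h1 (by rw [← this m, hm, mul_zero])
    · obtain ⟨u, hu⟩ := hu
      have hs : y * (x * ↑u⁻¹) = 1 := by rw [← mul_assoc, ← hu, Units.mul_inv]
      have : ∀ j, y ^ j * (x * ↑u⁻¹) ^ j = 1 := fun j => by
        induction j with
        | zero => simp
        | succ j ih =>
          rw [pow_succ, pow_succ', mul_assoc, ← mul_assoc y, hs, one_mul, ih]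
      exact h1 (by rw [← this m, hm, zero_mul])
  let N : TwoSidedIdeal (CategoryTheory.End F) :=
    .mk' {y : CategoryTheory.End F | ¬ IsUnit y} (fun h0 => h.id_ne_zero (isUnit_zero_iff.1 h0).symm)
      (fun {x y} (ha : ¬ IsUnit x) (hb : ¬ IsUnit y) hab => h.not_isIso_add k (fun h' => ha ((isUnit_iff_isIso _).2 h'))
        (fun h' => hb ((isUnit_iff_isIso _).2 h')) ((isUnit_iff_isIso _).1 hab))
      (fun {x} (ha : ¬ IsUnit x) hn => ha (by simpa using hn.neg))
      (fun {x y} hy => (hnu x y hy).1) (fun {x y} hx => (hnu y x hx).2)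
  have hmem : ∀ y : CategoryTheory.End F, y ∈ N ↔ ¬ IsUnit y := fun y =>
    TwoSidedIdeal.mem_mk' _ _ _ _ _ _ y
  let f' : CategoryTheory.End F := f
  have hfN : f' ∈ N := (hmem f').2 fun hu => hni ((isUnit_iff_isIso f').1 hu)
  rcases IsSimpleRing.simple.eq_bot_or_eq_top N with hN | hN
  · rw [hN, TwoSidedIdeal.mem_bot] at hfN
    exact hf hfN
  · exact (hmem 1).1 (hN ▸ trivial) isUnit_one

/-- The endomorphism ring of an absolutely rank-one-isotypical module is simple. -/
theorem isSimpleRing_end_isotypic (k : Type u) [Field k] {X : Scheme.{u}}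
    (p : X ⟶ Spec (CommRingCat.of k)) [IsProper p] [GeometricallyIntegral p] (K : Type u) [Field K]
    [Algebra k K] [IsAlgClosed K] {E : X.Modules} (hE : Coh.IsCoh E) (hE0 : ¬ IsZero E)
    {L : (W4bk4gw11416.baseChange p K).Modules} (hL : PicF.IsInvertible L) {r : ℕ}
    (e : bcMod p K E ≅ pow L r) : IsSimpleRing (CategoryTheory.End E) := by
  letI : X.Over (Spec (CommRingCat.of k)) := ⟨p⟩
  letI : (W4bk4gw11416.baseChange p K).Over (Spec (CommRingCat.of K)) :=
    ⟨W4bk4gw11416.baseChangeTo p K⟩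
  haveI : IsProper ((W4bk4gw11416.baseChange p K) ↘ Spec (CommRingCat.of K)) :=
    isProper_baseChangeTo k p K
  haveI : IsIntegral (W4bk4gw11416.baseChange p K) :=
    GeometricallyIntegral.geometrically_isIntegral _ _ _ (IsPullback.of_hasPullback p _)
  haveI : CompactSpace X := QuasiCompact.compactSpace_of_compactSpace p
  exact isSimpleRing_end_of_schur k K (proj p K)
    (IsPullback.of_hasPullback p (Spec.map (CommRingCat.ofHom (algebraMap k K)))) hE hE0 (decOfIso e)
    (exists_smul_id_of_invertible K hL)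

end Groth.Agent.ASBunK
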