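import Groth.Agent.AVIsogPush.Decomp
import Groth.Agent.QCoh.Qcqs
import Groth.Agent.S0017
import Groth.Prelude.Def_W4c1astiltbs12AS

/-!
# Direct images along a finite separable extension of the base field, after splitting it
-/

set_option autoImplicit false
set_option backward.isDefEq.respectTransparency false
set_option backward.isDefEq.respectTransparency.types false
set_option linter.style.haveILetI false

universe u

open CategoryTheory CategoryTheory.Limits AlgebraicGeometry
open scoped TensorProduct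
open W4c1astiltbs12

noncomputable section

namespace Groth.Agent.ASBunK

attribute [local instance] QCoh.hasFiniteBiproducts

variable (k L K : Type u) [Field k] [Field L] [Field K] [Algebra k L] [Algebra k K]

/-- The evaluation of a tensor at all the embeddings. -/
def evalEmb : L ⊗[k] K →ₐ[k] ((L →ₐ[k] K) → K) :=
  AlgHom.pi fun σ => Algebra.TensorProduct.lift σ (AlgHom.id k K) fun a b => Commute.all (σ a) b

variable [FiniteDimensional k L] [Algebra.IsSeparable k L] [IsSepClosed K]

/-- A finite separable extension is split by a separably closed field. -/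
theorem bijective_evalEmb : Function.Bijective (evalEmb k L K) := by
  classical
  let b := Module.finBasis k L
  have hcard : Fintype.card (L →ₐ[k] K) = Module.finrank k L :=
    AlgHom.card_of_splits k L K fun x =>
      IsSepClosed.splits_codomain _ (Algebra.IsSeparable.isSeparable k x)
  let M : (Fin (Module.finrank k L) → K) →ₗ[K] ((L →ₐ[k] K) → K) :=
    LinearMap.pi fun σ => ∑ i, σ (b i) • LinearMap.proj i
  have hM : ∀ v σ, M v σ = ∑ i, σ (b i) * v i := fun v σ => by simp [M]
  have hsurj : Function.Surjective M := by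
    refine LinearMap.range_eq_top.1 (by_contra fun hne => ?_)
    obtain ⟨c, hc, hle⟩ := Submodule.exists_le_ker_of_lt_top _ (lt_top_iff_ne_top.2 hne)
    refine hc (LinearMap.pi_ext fun σ x => ?_)
    have hli := Fintype.linearIndependent_iff.1 (linearIndependent_algHom_toLinearMap k L K)
      (fun σ => c (Pi.single σ 1)) (b.ext fun i => ?_) σ
    · rw [show (Pi.single σ x : (L →ₐ[k] K) → K) = x • (Pi.single σ 1) by
        rw [← Pi.single_smul, smul_eq_mul, mul_one], map_smul, hli, smul_zero, LinearMap.zero_apply]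
    · have h1 : c (M (Pi.single i 1)) = 0 := hle (LinearMap.mem_range_self M _)
      have h2 : M (Pi.single i 1) = ∑ σ : L →ₐ[k] K, σ (b i) • (Pi.single σ 1 : (L →ₐ[k] K) → K) := by
        funext τ; simp [hM, Pi.single_apply, Finset.sum_apply]
      rw [h2, map_sum] at h1
      simpa [mul_comm] using h1
  have hbij : Function.Bijective M :=
    ⟨(LinearMap.injective_iff_surjective_of_finrank_eq_finrank (by
      rw [Module.finrank_fintype_fun_eq_card, Module.finrank_fintype_fun_eq_card, hcard, Fintype.card_fin])).2 hsurj,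
      hsurj⟩
  let bK := Algebra.TensorProduct.basis K b
  convert hbij.comp (((Algebra.TensorProduct.comm k L K).toEquiv.trans bK.equivFun.toEquiv).bijective) using 1
  funext x σ
  show _ = M (bK.equivFun (Algebra.TensorProduct.comm k L K x)) σ
  induction x using TensorProduct.induction_on with
  | zero => simp
  | tmul a y =>
    rw [hM]
    refine Eq.trans (b := σ a * y) (Algebra.TensorProduct.lift_tmul _ _ (fun a b => Commute.all (σ a) b) _ _) ?_
    conv_lhs => rw [← b.sum_repr a]
    rw [map_sum, Finset.sum_mul]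
    refine Finset.sum_congr rfl fun i _ => ?_
    rw [Algebra.TensorProduct.comm_tmul, Module.Basis.equivFun_apply, Algebra.TensorProduct.basis_repr_tmul]
    simp [Algebra.smul_def]
    ring
  | add a c ha hc => simp only [map_add, Pi.add_apply] at *; rw [ha, hc]

section Geometry

omit [FiniteDimensional k L] [Algebra.IsSeparable k L] [IsSepClosed K]

/-- The structure map of an extension. -/
abbrev strField : Spec (CommRingCat.of L) ⟶ Spec (CommRingCat.of k) :=
  Spec.map (CommRingCat.ofHom (algebraMap k L))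

variable {k L K}

/-- The point of the fibre product of two spectra given by an embedding. -/
def ptEmb (σ : L →ₐ[k] K) : Spec (CommRingCat.of K) ⟶ pullback (strField k L) (strField k K) :=
  pullback.lift (Spec.map (CommRingCat.ofHom σ.toRingHom)) (𝟙 _) (by
    rw [Category.id_comp, ← Spec.map_comp, ← CommRingCat.ofHom_comp]
    congr 2
    ext x
    exact σ.commutes x)

theorem ptEmb_snd (σ : L →ₐ[k] K) : ptEmb σ ≫ pullback.snd _ _ = 𝟙 _ := pullback.lift_snd _ _ _

theorem ptEmb_fst (σ : L →ₐ[k] K) :
    ptEmb σ ≫ pullback.fst _ _ = Spec.map (CommRingCat.ofHom σ.toRingHom) := pullback.lift_fst _ _ _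

variable [FiniteDimensional k L] [Algebra.IsSeparable k L] [IsSepClosed K]

/-- The points given by the embeddings exhaust the fibre product. -/
theorem exists_iso_ptEmb :
    ∃ Φ : (∐ fun _ : (L →ₐ[k] K) => Spec (CommRingCat.of K)) ≅ pullback (strField k L) (strField k K),
      ∀ σ, Sigma.ι (fun _ : (L →ₐ[k] K) => Spec (CommRingCat.of K)) σ ≫ Φ.hom = ptEmb σ := by
  let e : L ⊗[k] K ≃+* ((L →ₐ[k] K) → K) :=
    RingEquiv.ofBijective (evalEmb k L K).toRingHom (bijective_evalEmb k L K)
  let Φ := asIso (sigmaSpec fun _ : (L →ₐ[k] K) => CommRingCat.of K) ≪≫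
    Scheme.Spec.mapIso e.toCommRingCatIso.op ≪≫ (pullbackSpecIso k L K).symm
  refine ⟨Φ, fun σ => ?_⟩
  have h : Sigma.ι (fun _ : (L →ₐ[k] K) => Spec (CommRingCat.of K)) σ ≫ Φ.hom =
      Spec.map (CommRingCat.ofHom (Algebra.TensorProduct.lift σ (AlgHom.id k K)
        fun a b => Commute.all (σ a) b).toRingHom) ≫ (pullbackSpecIso k L K).inv := by
    simp only [Φ, Iso.trans_hom, asIso_hom, Iso.symm_hom, ← Category.assoc, ι_sigmaSpec]
    congr 1
    refine (Spec.map_comp _ _).symm.trans (congrArg Spec.map ?_)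
    rfl
  rw [h]
  refine pullback.hom_ext ?_ ?_
  · rw [Category.assoc, pullbackSpecIso_inv_fst, ptEmb_fst, ← Spec.map_comp]
    congr 1
    ext x
    show Algebra.TensorProduct.lift σ (AlgHom.id k K) (fun a b => Commute.all (σ a) b) (x ⊗ₜ[k] 1) = σ x
    simp
  · rw [Category.assoc, pullbackSpecIso_inv_snd, ptEmb_snd, ← Spec.map_comp, ← Spec.map_id]
    congr 1
    ext x
    show Algebra.TensorProduct.lift σ (AlgHom.id k K) (fun a b => Commute.all (σ a) b) (1 ⊗ₜ[k] x) = x
    simp

theorem isOpenImmersion_ptEmb (σ : L →ₐ[k] K) : IsOpenImmersion (ptEmb σ) := by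
  obtain ⟨Φ, hΦ⟩ := exists_iso_ptEmb (k := k) (L := L) (K := K)
  rw [← hΦ]
  infer_instance

theorem disjoint_ptEmb :
    Pairwise fun σ τ : L →ₐ[k] K => Disjoint (Set.range (ptEmb σ)) (Set.range (ptEmb τ)) := by
  obtain ⟨Φ, hΦ⟩ := exists_iso_ptEmb (k := k) (L := L) (K := K)
  intro σ τ hne
  refine Set.disjoint_left.2 ?_
  rintro _ ⟨x, rfl⟩ ⟨y, hy⟩
  rw [← hΦ, ← hΦ, Scheme.Hom.comp_apply, Scheme.Hom.comp_apply] at hy
  have hinj : Function.Injective Φ.hom.base := Φ.hom.isOpenEmbedding.injective
  have hy' := hinj hy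
  exact Set.disjoint_left.1 (TopologicalSpace.Opens.coe_disjoint.2
      (disjoint_opensRange_sigmaι (fun _ : (L →ₐ[k] K) => Spec (CommRingCat.of K)) σ τ hne))
    ⟨x, rfl⟩ ⟨y, hy'⟩

theorem cover_ptEmb (z : (pullback (strField k L) (strField k K) : Scheme.{u})) :
    ∃ σ : L →ₐ[k] K, z ∈ Set.range (ptEmb σ) := by
  obtain ⟨Φ, hΦ⟩ := exists_iso_ptEmb (k := k) (L := L) (K := K)
  obtain ⟨σ, x, hx⟩ := (sigmaOpenCover fun _ : (L →ₐ[k] K) => Spec (CommRingCat.of K)).exists_eq (Φ.inv z)
  replace hx : Sigma.ι (fun _ : (L →ₐ[k] K) => Spec (CommRingCat.of K)) σ x = Φ.inv z := hx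
  refine ⟨σ, x, ?_⟩
  rw [← hΦ, Scheme.Hom.comp_apply, hx, ← Scheme.Hom.comp_apply, Iso.inv_hom_id]
  rfl

end Geometry

section Push

omit [FiniteDimensional k L] [Algebra.IsSeparable k L] [IsSepClosed K]

variable {k L K} {X : Scheme.{u}} (p : X ⟶ Spec (CommRingCat.of k))

/-- The projection to the base change along an embedding. -/
def projEmb (σ : L →ₐ[k] K) : W4bk4gw11416.baseChange p K ⟶ pullback p (strField k L) :=
  pullback.lift (proj p K) (W4bk4gw11416.baseChangeTo p K ≫ Spec.map (CommRingCat.ofHom σ.toRingHom)) (by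
    rw [Category.assoc, ← Spec.map_comp, ← CommRingCat.ofHom_comp,
      show σ.toRingHom.comp (algebraMap k L) = algebraMap k K from RingHom.ext σ.commutes]
    exact pullback.condition)

theorem projEmb_fst (σ : L →ₐ[k] K) : projEmb p σ ≫ pullback.fst p (strField k L) = proj p K :=
  pullback.lift_fst _ _ _

theorem projEmb_snd (σ : L →ₐ[k] K) : projEmb p σ ≫ pullback.snd p (strField k L) =
    W4bk4gw11416.baseChangeTo p K ≫ Spec.map (CommRingCat.ofHom σ.toRingHom) :=
  pullback.lift_snd _ _ _

variable [FiniteDimensional k L] [Algebra.IsSeparable k L] [IsSepClosed K]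

/-- The pullback of a direct image from `X_L` is the sum over the embeddings of `L`. -/
theorem nonempty_pullback_push (E : (pullback p (strField k L)).Modules) [Coh.IsQCoh E] :
    Nonempty (bcMod p K ((Scheme.Modules.pushforward (pullback.fst p (strField k L))).obj E) ≅
      ∐ fun σ : L →ₐ[k] K => (Scheme.Modules.pullback (projEmb p σ)).obj E) := by
  let π := pullback.fst p (strField k L)
  haveI : IsAffineHom π := MorphismProperty.pullback_fst _ _ inferInstance
  let p₁ := pullback.fst π (proj p K)
  let p₂ := pullback.snd π (proj p K)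
  let t : pullback π (proj p K) ⟶ pullback (strField k L) (strField k K) :=
    pullback.lift (p₁ ≫ pullback.snd p (strField k L)) (p₂ ≫ W4bk4gw11416.baseChangeTo p K) (by
      rw [Category.assoc, Category.assoc, ← pullback.condition, ← pullback.condition,
        pullback.condition_assoc])
  have h1 : IsPullback (t ≫ pullback.fst (strField k L) (strField k K)) p₂ (strField k L)
      (W4bk4gw11416.baseChangeTo p K ≫ strField k K) := by
    rw [pullback.lift_fst, ← pullback.condition]
    exact (IsPullback.of_hasPullback π (proj p K)).paste_horiz (IsPullback.of_hasPullback p (strField k L)).flip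
  have h2 : IsPullback t p₂ (pullback.snd (strField k L) (strField k K))
      (W4bk4gw11416.baseChangeTo p K) :=
    IsPullback.of_right h1 (pullback.lift_snd _ _ _) (IsPullback.of_hasPullback _ _)
  let s : (L →ₐ[k] K) → (W4bk4gw11416.baseChange p K ⟶ pullback π (proj p K)) := fun σ =>
    pullback.lift (projEmb p σ) (𝟙 _) ((projEmb_fst p σ).trans (Category.id_comp _).symm)
  have hs₁ : ∀ σ, s σ ≫ p₁ = projEmb p σ := fun σ => pullback.lift_fst _ _ _
  have hs₂ : ∀ σ, s σ ≫ p₂ = 𝟙 _ := fun σ => pullback.lift_snd _ _ _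
  have hst : ∀ σ, IsPullback (s σ) (W4bk4gw11416.baseChangeTo p K) t (ptEmb σ) := fun σ => by
    refine IsPullback.of_right ?_ ?_ h2.flip
    · rw [hs₂, ptEmb_snd]
      exact IsPullback.of_id_fst
    · refine pullback.hom_ext ?_ ?_
      · rw [Category.assoc, Category.assoc, ptEmb_fst, pullback.lift_fst, ← Category.assoc, hs₁,
          projEmb_snd]
      · rw [Category.assoc, Category.assoc, ptEmb_snd, pullback.lift_snd, ← Category.assoc, hs₂,
          Category.id_comp, Category.comp_id]
  haveI : ∀ σ, IsOpenImmersion (s σ) := fun σ =>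
    MorphismProperty.of_isPullback (P := @IsOpenImmersion) (hst σ).flip (isOpenImmersion_ptEmb σ)
  have hd : Pairwise fun σ τ : L →ₐ[k] K => Disjoint (Set.range (s σ)) (Set.range (s τ)) := by
    intro σ τ hne
    refine Set.disjoint_left.2 ?_
    rintro _ ⟨x, rfl⟩ ⟨y, hy⟩
    have hy' : (s τ ≫ t) y = (s σ ≫ t) x := congrArg t hy
    rw [(hst σ).w, (hst τ).w] at hy'
    exact Set.disjoint_left.1 (disjoint_ptEmb hne) ⟨_, rfl⟩ ⟨_, hy'⟩
  have hc : ∀ z : (pullback π (proj p K) : Scheme.{u}), ∃ σ, z ∈ Set.range (s σ) := fun z => by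
    obtain ⟨σ, x, hx⟩ := cover_ptEmb (t z)
    obtain ⟨w, hw, -⟩ := Scheme.exists_preimage_of_isPullback (hst σ) z x hx.symm
    exact ⟨σ, w, hw⟩
  obtain ⟨e₁⟩ := Groth.Agent.S0017.result π (proj p K) p₁ p₂ (IsPullback.of_hasPullback _ _) E
  let M := (Scheme.Modules.pullback p₁).obj E
  obtain ⟨e₂⟩ := AVIsogPush.nonempty_iso_biproduct s hd hc M
  let T : (L →ₐ[k] K) → (pullback π (proj p K) : Scheme.{u}).Modules := fun σ =>
    (Scheme.Modules.pushforward (s σ)).obj (M.restrict (s σ))
  have e₃ : ∀ σ, (Scheme.Modules.pushforward p₂).obj (T σ) ≅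
      (Scheme.Modules.pullback (projEmb p σ)).obj E := fun σ =>
    (Scheme.Modules.pushforwardComp (s σ) p₂).app _ ≪≫
      (Scheme.Modules.pushforwardCongr (hs₂ σ)).app _ ≪≫
      (Scheme.Modules.pushforwardId _).app _ ≪≫
      (Scheme.Modules.restrictFunctorIsoPullback (s σ)).app M ≪≫
      (Scheme.Modules.pullbackComp (s σ) p₁).app E ≪≫
      (Scheme.Modules.pullbackCongr (hs₁ σ)).app E
  haveI : PreservesBiproduct T (Scheme.Modules.pushforward p₂) := preservesBiproduct_of_preservesProduct _
  exact ⟨e₁ ≪≫ (Scheme.Modules.pushforward p₂).mapIso e₂ ≪≫ (Scheme.Modules.pushforward p₂).mapBiproduct T ≪≫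
    biproduct.mapIso e₃ ≪≫ biproduct.isoCoproduct _⟩

end Push

end Groth.Agent.ASBunK
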