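import Groth.Agent.ASBunK.TypeCalc

/-!
# Twisting isotypical modules by invertible modules
-/

set_option autoImplicit false
set_option backward.isDefEq.respectTransparency false
set_option backward.isDefEq.respectTransparency.types false
set_option linter.style.haveILetI false
set_option linter.unusedSectionVars false

universe u

open CategoryTheory CategoryTheory.Limits AlgebraicGeometry
open W4c1astiltbs12 PicGrp

noncomputable section

namespace Groth.Agent.ASBunK

variable (k : Type u) [Field k] {X : Scheme.{u}} (p : X ⟶ Spec (CommRingCat.of k)) [IsProper p]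
  (K : Type u) [Field K] [Algebra k K] [ConnectedSpace ↥(W4bk4gw11416.baseChange p K)]

/-- The multiplicity of a type is well defined. -/
theorem mult_eq_of_type {N N' : (W4bk4gw11416.baseChange p K).Modules} (hN : PicF.IsInvertible N)
    (hN' : PicF.IsInvertible N') {E : X.Modules} (hE : Coh.IsCoh E) {a b : ℕ}
    (h : bcMod p K E ≅ pow N a) (h' : bcMod p K E ≅ pow N' b) :
    a = b ∧ (0 < a → Nonempty (N ≅ N')) := by
  haveI := isProper_baseChangeTo k p K
  obtain ⟨σ, hσ⟩ := exists_equiv_of_dec_isCoh K (W4bk4gw11416.baseChangeTo p K) (isCoh_bcMod k p K hE)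
    (decOfIso h) (decOfIso h') (fun _ => indec_of_isInvertible_connected hN)
    (fun _ => indec_of_isInvertible_connected hN')
  exact ⟨by simpa using Fintype.card_congr σ, fun ha => hσ ⟨0, ha⟩⟩

/-- Indecomposable modules of the same invertible type have the same multiplicity. -/
theorem mult_eq_of_indec {N : (W4bk4gw11416.baseChange p K).Modules} (hN : PicF.IsInvertible N)
    {E E' : X.Modules} (hE : Coh.IsCoh E) (hE' : Coh.IsCoh E') (hi : Indec E) (hi' : Indec E') {a b : ℕ}
    (h : bcMod p K E ≅ pow N a) (h' : bcMod p K E' ≅ pow N b) : a = b ∧ Nonempty (E ≅ E') := by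
  obtain ⟨i⟩ := indec_isotypic_unique k p K hE hE' hi hi' h h'
  exact ⟨(mult_eq_of_type k p K hN hN hE h ((Scheme.Modules.pullback (proj p K)).mapIso i ≪≫ h')).1, ⟨i⟩⟩

variable [Law X] [Law (W4bk4gw11416.baseChange p K)] (hπ : PullMul (proj p K))

omit [IsProper p] [ConnectedSpace ↥(W4bk4gw11416.baseChange p K)] in
include hπ in
/-- The type of a twist by an invertible module. -/
theorem type_tensor {N N'' : (W4bk4gw11416.baseChange p K).Modules} (hN : PicF.IsInvertible N)
    (hN'' : PicF.IsInvertible N'') {W J : X.Modules} (hJ : PicF.IsInvertible J) {d : ℕ}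
    (h : bcMod p K W ≅ pow N d) (hcls : cls N hN * pullHom (proj p K) hπ (cls J hJ) = cls N'' hN'') :
    Nonempty (bcMod p K (CohB1.tensorMod W J) ≅ pow N'' d) := by
  rw [pullHom_cls] at hcls
  obtain ⟨i⟩ := nonempty_iso_tensor_of_cls hN (PicLoc.isInvertible_pullback (proj p K) hJ) hN'' hcls
  simpa using nonempty_bc_tensor h
    (coproductUniqueIso fun _ : Fin 1 => (Scheme.Modules.pullback (proj p K)).obj J).symm i

include hπ in
/-- The twist of an indecomposable isotypical module by an invertible module is indecomposable. -/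
theorem indec_tensor {N N'' : (W4bk4gw11416.baseChange p K).Modules} (hN : PicF.IsInvertible N)
    (hN'' : PicF.IsInvertible N'') {W J : X.Modules} (hW : FlatMod.IsFinLocFree W) (hi : Indec W)
    (hJ : PicF.IsInvertible J) {d : ℕ} (hd : 0 < d)
    (h : bcMod p K W ≅ pow N d) (hcls : cls N hN * pullHom (proj p K) hπ (cls J hJ) = cls N'' hN'') :
    FlatMod.IsFinLocFree (CohB1.tensorMod W J) ∧ Indec (CohB1.tensorMod W J) ∧
      Nonempty (bcMod p K (CohB1.tensorMod W J) ≅ pow N'' d) := by
  haveI := isLocallyNoetherian_of_proper k p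
  obtain ⟨iWJ⟩ := type_tensor k p K hπ hN hN'' hJ h hcls
  have hf := SBBundle.isFinLocFree_tensorMod hW (SBBundle.isFinLocFree_of_isInvertible hJ)
  obtain ⟨G, c, s, hG, hR, hcs, hs, ⟨iG⟩, ⟨eG⟩⟩ := exists_indec_of_type k p K
    (indec_of_isInvertible_connected hN'') (CurveDeg.isCoh_of_isFinLocFree hf) hd iWJ
  have hGf := isFinLocFree_of_isRetr hR hf
  obtain ⟨J', hJ', hJc⟩ := exists_eq_cls (cls J hJ)⁻¹
  obtain ⟨iGJ⟩ := type_tensor k p K hπ hN'' hN hJ' eG (by
    rw [← hJc, map_inv, ← hcls, mul_inv_cancel_right])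
  have hGJf := SBBundle.isFinLocFree_tensorMod hGf (SBBundle.isFinLocFree_of_isInvertible hJ')
  obtain ⟨G', c', s', hG', hR', hcs', -, -, ⟨eG'⟩⟩ := exists_indec_of_type k p K
    (indec_of_isInvertible_connected hN) (CurveDeg.isCoh_of_isFinLocFree hGJf) hs iGJ
  obtain ⟨hsd, -⟩ := mult_eq_of_indec k p K hN (isCoh_of_isRetr hR' (CurveDeg.isCoh_of_isFinLocFree hGJf))
    (CurveDeg.isCoh_of_isFinLocFree hW) hG' hi eG' h
  subst hsd
  have hc : c = 1 := by
    rw [← hcs', ← mul_assoc] at hcs
    have hpos : 0 < s' := hd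
    have := Nat.eq_of_mul_eq_mul_right hpos (hcs.trans (one_mul s').symm)
    exact Nat.eq_one_of_mul_eq_one_right this
  subst hc
  exact ⟨hf, hG.congr (iG ≪≫ coproductUniqueIso fun _ : Fin 1 => G).symm, ⟨iWJ⟩⟩

end Groth.Agent.ASBunK
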